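import Mathlib
import Cfsg.Agent.LyS.Fus
import Cfsg.Agent.FW.Act
import Cfsg.Agent.Lyons.Tools

/-! Groups with a Sylow 2-subgroup `D₈ ≀ 2` and the involution fusion pattern of `L₄(q)`,
`q ≡ 3 (8)`, and `U₄(q)`, `q ≡ 5 (8)`. -/

set_option autoImplicit false
set_option linter.unusedSectionVars false
set_option synthInstance.maxSize 8000

namespace Cfsg.Agent.L4W

open Subgroup Cfsg Cfsg.Agent.PLocal.Amb Cfsg.Agent.Gold Cfsg.Agent.BF Cfsg.Agent.W42 Cfsg.Agent.LyS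
  Cfsg.Agent.SylT Cfsg.Agent.Lyons Cfsg.Agent.FW Equiv
open scoped MatrixGroups

/-- involutions fused to `z1` -/
def s2 (x : K) : Prop := Nat.testBit 0x6009000000009009000f00050003f536 x.v = true
/-- involutions fused to `kz` -/
def s4 (x : K) : Prop := Nat.testBit 0xfa0f0c0ac8 x.v = true

instance instDecS2 (x : K) : Decidable (s2 x) := inferInstanceAs (Decidable (_ = true))
instance instDecS4 (x : K) : Decidable (s4 x) := inferInstanceAs (Decidable (_ = true))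

/-- the extraspecial subgroup `Q₈ ∘ Q₈ = ⟨z1, u1 u2, v1 v2, kt⟩` -/
def kQ : Subgroup K := TG.msub 0xf00f00000000f00ff00f00000000f00f (by decide +kernel)
/-- the normalizer `⟨kQ, u1 v2⟩` of the two quaternion factors -/
def kT : Subgroup K := TG.msub 0xf00f0ff00ff0f00ff00f0ff00ff0f00f (by decide +kernel)
/-- the first quaternion factor -/
def kQ1 : Subgroup K := TG.msub 0x60000000060009000000000000009 (by decide +kernel)
/-- the second quaternion factor -/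
def kQ2 : Subgroup K := TG.msub 0x90000000000000066000000000000009 (by decide +kernel)
/-- the centralizer `⟨z1, u1⟩ × D₂` of `u1` -/
def kP : Subgroup K := TG.msub 0xffff0000ffff (by decide +kernel)
/-- the second dihedral factor -/
def kD2 : Subgroup K := TG.msub 0x50500000505 (by decide +kernel)
/-- an element of order 4 of `kQ1` -/
def i1 : K := TG.of 60
/-- an element of order 4 of `kQ2` -/
def i2 : K := TG.of 62
/-- the involution outside `kQ` normalizing both factors -/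
def kn : K := u1 * v2

instance instDecQ (x : K) : Decidable (x ∈ kQ) := TG.instDecMem _ _ x
instance instDecT (x : K) : Decidable (x ∈ kT) := TG.instDecMem _ _ x
instance instDecQ1 (x : K) : Decidable (x ∈ kQ1) := TG.instDecMem _ _ x
instance instDecQ2 (x : K) : Decidable (x ∈ kQ2) := TG.instDecMem _ _ x
instance instDecP (x : K) : Decidable (x ∈ kP) := TG.instDecMem _ _ x
instance instDecD2 (x : K) : Decidable (x ∈ kD2) := TG.instDecMem _ _ x

theorem card_Q : Nat.card kQ = 32 := by rw [TG.card_sub]; decide +kernel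
theorem card_T : Nat.card kT = 64 := by rw [TG.card_sub]; decide +kernel
theorem card_Q1 : Nat.card kQ1 = 8 := by rw [TG.card_sub]; decide +kernel
theorem card_Q2 : Nat.card kQ2 = 8 := by rw [TG.card_sub]; decide +kernel
theorem card_P : Nat.card kP = 32 := by rw [TG.card_sub]; decide +kernel
theorem card_D2 : Nat.card kD2 = 8 := by rw [TG.card_sub]; decide +kernel

/-- the automorphism interchanging `u_i` and `v_i` -/
def sg : K →* K := MonoidHom.mk' (fun x => TG.of (0xf9f7f7fdbb37eebd7ee5d9f3a6ccf3e3dfad3a35eab76acd8972a4c8eddfa75cf9b2e4ad5ea558f1a2c4e7cb8f0c78b0e0a74a8d0870a0c078f5f3f5ab17ae3c7ce1d1e3868c72e1dba52a15aa3668c9816284886cdda354e992a42c5ca150e1828466c98b046890a026488900608080 >>> (7 * x.v)))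
  (by decide +kernel)

theorem sg_sg : ∀ x, sg (sg x) = x := by decide +kernel
theorem sg_val : sg z1 = z1 ∧ sg z2 = z2 ∧ sg u1 = v1 ∧ sg u2 = v2 ∧ sg v1 = u1 ∧ sg v2 = u2 ∧
    sg kt = kt ∧ sg kz = kz := by decide +kernel

/-- the action of the swap on `kP` -/
def mu (x : K) : K := TG.of (0x5ea96a856b94ac46990a44e892a000000000000000000000000000001e28688163848c06180840e08280 >>> (7 * x.v))

theorem s24 : ∀ x : K, x * x = 1 → x ≠ 1 → s2 x ∨ s4 x := by decide +kernel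
theorem s2_sq : ∀ x, s2 x → x * x = 1 ∧ x ≠ 1 ∧ ¬ s4 x := by decide +kernel
theorem s4_sq : ∀ x, s4 x → x * x = 1 ∧ x ≠ 1 := by decide +kernel
theorem P_gen : ∀ x ∈ kP, ∃ a b c d e : Fin 2,
    x = z1 ^ a.val * z2 ^ b.val * u1 ^ c.val * (u2 * z1) ^ d.val * v2 ^ e.val ∧
    mu x = (u1 * z1) ^ a.val * z2 ^ b.val * u1 ^ c.val * (u2 * z1) ^ d.val * v2 ^ e.val := by
  decide +kernel
theorem cl2 : ∀ x, s2 x → (∃ k, k * x * k⁻¹ ∈ kP ∧ ∃ l, l * mu (k * x * k⁻¹) * l⁻¹ ∈ kP ∧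
      mu (l * mu (k * x * k⁻¹) * l⁻¹) = z1) ∨ (∃ k, k * sg x * k⁻¹ ∈ kP ∧
      ∃ l, l * mu (k * sg x * k⁻¹) * l⁻¹ ∈ kP ∧ mu (l * mu (k * sg x * k⁻¹) * l⁻¹) = z1) ∨
      ∃ k, k * x * k⁻¹ = kt := by decide +kernel
theorem cl4 : ∀ x, s4 x → (∃ k, k * x * k⁻¹ ∈ kP ∧ mu (k * x * k⁻¹) = kz) ∨
    (∃ k, k * sg x * k⁻¹ ∈ kP ∧ mu (k * sg x * k⁻¹) = kz) ∨ x = kz ∨
    ∃ k, k * x * k⁻¹ ∈ kP ∧ mu (k * x * k⁻¹) = z1 * v2 := by decide +kernel

variable {G : Type*} [Group G] [Finite G] {ι : K →* G} {g m : G} {x y : K} {M : Subgroup G}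

/-- a swap: an involution normalizing `kP` and inducing `mu` -/
structure Sw (ι : K →* G) (m : G) : Prop where
  sq : m * m = 1
  cz : Cj ι m z2 z2
  cu : Cj ι m u1 u1
  zu : Cj ι m z1 (u1 * z1)
  cw : Cj ι m (u2 * z1) (u2 * z1)
  cv : Cj ι m v2 v2

/-- the fusion pattern -/
structure LF (ι : K →* G) : Prop extends MS ι ⊤ where
  su : ∃ m, Sw ι m
  sv : ∃ m, Sw (ι.comp sg) m
  ct : ∃ c, Cj ι c kz kz ∧ Cj ι c kt z1

theorem cj_pw (h : Cj ι g x y) (n : ℕ) : Cj ι g (x ^ n) (y ^ n) := by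
  unfold Cj at *; rw [map_pow, map_pow, ← h, conj_pow]

theorem Sw.act (s : Sw ι m) (hx : x ∈ kP) : Cj ι m x (mu x) := by
  obtain ⟨a, b, c, d, e, r1, r2⟩ := P_gen x hx
  exact (((((cj_pw s.zu _).mul (cj_pw s.cz _)).mul (cj_pw s.cu _)).mul (cj_pw s.cw _)).mul
    (cj_pw s.cv _)).cg r1.symm r2.symm

theorem Sw.pm (s : Sw ι m) : Pm ι m (swap p1 none) := fun p =>
  (s.act ((by decide +kernel : ∀ p, kq p ∈ kP) p)).cg rfl
    ((by decide +kernel : ∀ p, mu (kq p) = kq (swap p1 none p)) p)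

theorem cj_sg : Cj (ι.comp sg) g x y ↔ Cj ι g (sg x) (sg y) := Iff.rfl

theorem cj_sg' : Cj (ι.comp sg) g (sg x) (sg y) ↔ Cj ι g x y := by rw [cj_sg, sg_sg, sg_sg]

theorem comp_sg_sg (ι : K →* G) : (ι.comp sg).comp sg = ι := MonoidHom.ext fun x => congrArg ι (sg_sg x)

theorem range_comp {α : K →* K} (h : Function.Surjective α) (ι : K →* G) : (ι.comp α).range = ι.range := by
  rw [MonoidHom.range_comp, MonoidHom.range_eq_top_of_surjective _ h, ← MonoidHom.range_eq_map]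

theorem ms_comp {α : K →* K} (h : Function.Injective α) (d : MS ι M) : MS (ι.comp α) M :=
  ⟨d.inj.comp h, by rw [range_comp (Finite.injective_iff_surjective.1 h)]; exact d.syl⟩

theorem sg_inj : Function.Injective sg := fun x y h => by rw [← sg_sg x, h, sg_sg]

theorem range_sg (ι : K →* G) : (ι.comp sg).range = ι.range :=
  range_comp (Finite.injective_iff_surjective.1 sg_inj) ι

theorem LF.sy (d : LF ι) : LF (ι.comp sg) := by
  obtain ⟨c, e1, e2⟩ := d.ct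
  obtain ⟨h1, -, -, -, -, -, h2, h3⟩ := sg_val
  exact ⟨ms_comp sg_inj d.toMS, d.sv, (comp_sg_sg ι).symm ▸ d.su, c, cj_sg.2 (e1.cg h3.symm h3.symm),
    cj_sg.2 (e2.cg h2.symm h1.symm)⟩

theorem Fm.symm (a : Fm ι M x y) : Fm ι M y x := a.elim fun _ h => ⟨_, inv_mem h.1, h.2.symm⟩

theorem Fm.sg (a : Fm (ι.comp sg) M (sg x) (sg y)) : Fm ι M x y := a.imp fun _ h => ⟨h.1, cj_sg'.1 h.2⟩

/-- fusion of the non-central type inside a subgroup containing the swaps -/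
theorem fm_s2 (hM : ι.range ≤ M) (s : Sw ι m) (hm : m ∈ M) {m' : G} (s' : Sw (ι.comp sg) m')
    (hm' : m' ∈ M) (h : s2 x) : Fm ι M x z1 ∨ Fm ι M x kt := by
  have k : ∀ {ι : K →* G} {m x}, ι.range ≤ M → Sw ι m → m ∈ M → (∃ k, k * x * k⁻¹ ∈ kP ∧
      ∃ l, l * mu (k * x * k⁻¹) * l⁻¹ ∈ kP ∧ mu (l * mu (k * x * k⁻¹) * l⁻¹) = z1) → Fm ι M x z1 := by
    rintro ι m x hM s hm ⟨k, h1, l, h2, h3⟩
    exact (((fm_of hM rfl).trans ⟨m, hm, s.act h1⟩).trans (fm_of hM rfl)).trans ⟨m, hm, h3 ▸ s.act h2⟩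
  rcases cl2 x h with r | r | ⟨k', r⟩
  exacts [Or.inl (k hM s hm r), Or.inl (Fm.sg (sg_val.1.symm ▸ k ((range_sg ι).trans_le hM) s' hm' r)),
    Or.inr (fm_of hM r)]

/-- fusion of the central type inside a subgroup containing the swaps -/
theorem fm_s4 (hM : ι.range ≤ M) (s : Sw ι m) (hm : m ∈ M) {m' : G} (s' : Sw (ι.comp sg) m')
    (hm' : m' ∈ M) (h : s4 x) : Fm ι M x kz := by
  have k : ∀ {ι : K →* G} {m x y}, ι.range ≤ M → Sw ι m → m ∈ M →
      (∃ k, k * x * k⁻¹ ∈ kP ∧ mu (k * x * k⁻¹) = y) → Fm ι M x y := by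
    rintro ι m x y hM s hm ⟨k, h1, h3⟩
    exact (fm_of hM rfl).trans ⟨m, hm, h3 ▸ s.act h1⟩
  have k' : ∀ {x}, (∃ k, k * sg x * k⁻¹ ∈ kP ∧ mu (k * sg x * k⁻¹) = kz) → Fm ι M x kz := fun r =>
    Fm.sg (sg_val.2.2.2.2.2.2.2.symm ▸ k ((range_sg ι).trans_le hM) s' hm' r)
  rcases cl4 x h with r | r | rfl | r
  exacts [k hM s hm r, k' r, ⟨1, one_mem _, Cj.refl _⟩, (k hM s hm r).trans (k' (by decide +kernel))]

namespace LF

variable (d : LF ι)
include d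

theorem f2 (h : s2 x) : Fu ι x z1 := by
  obtain ⟨m, s⟩ := d.su
  obtain ⟨m', s'⟩ := d.sv
  obtain ⟨c, -, e⟩ := d.ct
  rcases fm_s2 le_top s (mem_top _) s' (mem_top _) h with ⟨g, -, r⟩ | ⟨g, -, r⟩
  exacts [⟨g, r⟩, ⟨_, r.trans e⟩]

theorem f4 (h : s4 x) : Fu ι x kz := by
  obtain ⟨m, s⟩ := d.su
  obtain ⟨m', s'⟩ := d.sv
  obtain ⟨g, -, r⟩ := fm_s4 le_top s (mem_top _) s' (mem_top _) h
  exact ⟨g, r⟩

theorem no (h : s2 x) (h' : s4 y) : ¬ Fu ι x y := fun e =>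
  az d.toMS (((d.f2 h).symm.trans e).trans (d.f4 h'))

theorem t2 (e : Cj ι g x y) : s2 x ↔ s2 y := by
  have key : ∀ {g x y}, Cj ι g x y → s2 x → s2 y := fun e h =>
    (s24 _ ((e.sq d.inj).1 (s2_sq _ h).1) (e.ne_one d.inj (s2_sq _ h).2.1)).resolve_right
      fun r => d.no h r ⟨_, e⟩
  exact ⟨key e, key e.symm⟩

theorem t4 (e : Cj ι g x y) : s4 x ↔ s4 y := by
  have key : ∀ {g x y}, Cj ι g x y → s4 x → s4 y := fun e h =>
    (s24 _ ((e.sq d.inj).1 (s4_sq _ h).1) (e.ne_one d.inj (s4_sq _ h).2)).resolve_left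
      fun r => d.no r h ⟨_, e.symm⟩
  exact ⟨key e, key e.symm⟩

/-- the five involutions `kq p` of central type in `kB` are permuted by the full symmetric group -/
theorem all (π : Perm P5) : ∃ g, Pm ι g π := by
  obtain ⟨m, s⟩ := d.su
  exact (pm_all le_top (mem_top m) (by decide) s.pm π).imp fun _ h => h.2

/-- an element acting on `⟨z1, u1⟩ × ⟨z2, v2⟩` as a pair of 3-cycles; it permutes
`kz → kn → kn * kz → kz` -/
theorem rho : ∃ ρ, Cj ι ρ z1 u1 ∧ Cj ι ρ u1 (u1 * z1) ∧ Cj ι ρ z2 v2 ∧ Cj ι ρ v2 (v2 * z2) := by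
  obtain ⟨m, s⟩ := d.su
  obtain ⟨m', s'⟩ := d.sv
  have k : ∀ x y, x ∈ kP → sg (kt * (v1 * mu x * v1⁻¹) * kt⁻¹) ∈ kP →
      u2 * kt * sg (mu (sg (kt * (v1 * mu x * v1⁻¹) * kt⁻¹))) * (u2 * kt)⁻¹ = y →
      Cj ι (ι (u2 * kt) * (m' * (ι kt * (ι v1 * m)))) x y := fun x y h1 h2 h3 =>
    (((((s.act h1).trans (Cj.of v1 _)).trans (Cj.of kt _)).trans
      (cj_sg'.1 ((s'.act h2).cg rfl (sg_sg _).symm))).trans (Cj.of' h3))
  exact ⟨_, k _ _ (by decide +kernel) (by decide +kernel) (by decide +kernel),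
    k _ _ (by decide +kernel) (by decide +kernel) (by decide +kernel),
    k _ _ (by decide +kernel) (by decide +kernel) (by decide +kernel),
    k _ _ (by decide +kernel) (by decide +kernel) (by decide +kernel)⟩

end LF

/-- the model in `C(z) / O(C(z))` -/
def bar (ι : K →* G) : K →* 𝐜[ι kz] ⧸ oddCore 𝐜[ι kz] :=
  (QuotientGroup.mk' _).comp (ι.codRestrict _ fun x => range_le_c' ι z_comm ⟨x, rfl⟩)

theorem cj_bar {g : 𝐜[ι kz]} (e : Cj ι g x y) : Cj (bar ι) (QuotientGroup.mk' _ g) x y := by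
  rw [Cj, bar, MonoidHom.comp_apply, ← map_inv, ← map_mul, ← map_mul]
  exact congrArg _ (Subtype.ext e)

/-- the properties of `C(z) / O(C(z))` -/
structure XB {X : Type*} [Group X] (ι : K →* X) : Prop extends MS ι ⊤ where
  cen : ∀ g, Cj ι g kz kz
  core : oddCore X = ⊥
  ct : ∃ c, Cj ι c kt z1
  nu : ∀ g y, Cj ι g u1 y → y ∉ kT
  nv : ∀ g y, Cj ι g v1 y → y ∉ kT

/-- the two subgroups `L₁ = φ.range` and `L₂ = L₁ ^ u1` of the centralizer of `kz` -/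
structure JJ {X : Type*} [Group X] {F : Type} [Field F] [Fintype F] (ι : K →* X)
    (φ : SL(2, F) →* X) : Prop where
  md : Fintype.card F % 8 = 3 ∨ Fintype.card F % 8 = 5
  inj : Function.Injective φ
  neg : φ (-1) = ι kz
  comm : ∀ A B, Commute (φ A) (cjh (ι u1) φ B)
  inter : ∀ A B, φ A = cjh (ι u1) φ B → A = 1 ∨ A = -1
  le : ∀ x ∈ kQ1, ι x ∈ φ.range
  act : ∀ c, Commute c (ι kz) → (∃ M σ, ActS φ c M σ) ∨ ∃ M σ, ActS φ (ι u1 * c) M σ
  ker : ∀ c, (∀ A, Commute c (φ A)) → (∀ A, Commute c (cjh (ι u1) φ A)) →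
    c ∈ oc 𝐜[ι kz] ∨ c * ι kz ∈ oc 𝐜[ι kz]

/-- `u1` and `v1` invert the core of the centralizer of `kz` -/
def Inv2 (ι : K →* G) : Prop :=
  ∀ o ∈ oc 𝐜[ι kz], ι u1 * o * (ι u1)⁻¹ = o⁻¹ ∧ ι v1 * o * (ι v1)⁻¹ = o⁻¹

end Cfsg.Agent.L4W
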