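import Mathlib
import Cfsg.Agent.L4W.LF

/-! The action of `C(z1)` on its section `PSL₂(r)`. -/

set_option autoImplicit false
set_option linter.unusedSectionVars false

namespace Cfsg.Agent.L4W

open Subgroup Cfsg Cfsg.Agent.PLocal.Amb Cfsg.Agent.Gold Cfsg.Agent.BF Cfsg.Agent.W42 Cfsg.Agent.LyS
  Cfsg.Agent.SylT Cfsg.Agent.Lyons Cfsg.Agent.FW
open scoped MatrixGroups commutatorElement

variable {G : Type*} [Group G] [Finite G]

/-- the action `α` of `H = C(z1)` on the section `PSL₂(F)` with Sylow 2-subgroup `kD2` -/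
structure HK {F : Type} [Field F] [Fintype F] (ι : K →* G) (α : 𝐜[ι z1] →* MulAut PSL(2, F)) :
    Prop where
  odd : Odd (Fintype.card F)
  big : 3 < Fintype.card F
  ker : ∀ h, α h = 1 → Odd (orderOf h) → (h : G) ∈ oc 𝐜[ι z1]
  inn : ∀ (h : 𝐜[ι z1]) x, x ∈ kD2 → (h : G) = ι x → ∃ s, α h = MulAut.conj s
  ne : ∀ (h : 𝐜[ι z1]) x, x ∈ kD2 → (h : G) = ι x → α h = 1 → x = 1
  cen : ∀ h : 𝐜[ι z1], (h : G) = ι (u1 * v1 * z2) → α h = 1
  lift : ∀ t : 𝐜[ι z1], t * t = 1 → ∀ s, Commute (α t) (MulAut.conj s) →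
    ∃ k, Commute k t ∧ α k = MulAut.conj s

variable {ι : K →* G}

theorem HK.sy {F : Type} [Field F] [Fintype F] {α : 𝐜[ι z1] →* MulAut PSL(2, F)} (k : HK ι α) :
    ∃ β : 𝐜[(ι.comp sg) z1] →* MulAut PSL(2, F), HK (ι.comp sg) β := by
  have e : (ι.comp sg) z1 = ι z1 := congrArg ι sg_val.1
  have hD : ∀ x ∈ kD2, sg x ∈ kD2 := by decide +kernel
  have key : ∀ y, y = ι z1 → ∃ β : 𝐜[y] →* MulAut PSL(2, F),
      (∀ h, β h = 1 → Odd (orderOf h) → (h : G) ∈ oc 𝐜[y]) ∧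
      (∀ (h : 𝐜[y]) x, x ∈ kD2 → (h : G) = ι x → ∃ s, β h = MulAut.conj s) ∧
      (∀ (h : 𝐜[y]) x, x ∈ kD2 → (h : G) = ι x → β h = 1 → x = 1) ∧
      (∀ h : 𝐜[y], (h : G) = ι (u1 * v1 * z2) → β h = 1) ∧
      ∀ t : 𝐜[y], t * t = 1 → ∀ s, Commute (β t) (MulAut.conj s) →
        ∃ k, Commute k t ∧ β k = MulAut.conj s := by
    rintro _ rfl
    exact ⟨α, k.ker, k.inn, k.ne, k.cen, k.lift⟩
  obtain ⟨β, h1, h2, h3, h4, h5⟩ := key _ e
  refine ⟨β, k.odd, k.big, h1, fun h x hx r => h2 h _ (hD x hx) r,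
    fun h x hx r r' => sg_inj ((h3 h _ (hD x hx) r r').trans (map_one sg).symm), fun h r => ?_, h5⟩
  rw [← inv_eq_one, ← map_inv]
  refine h4 _ ?_
  rw [coe_inv, r, MonoidHom.comp_apply, ← map_inv]
  exact congrArg ι (by decide +kernel)

/-- `m' = kt m kt⁻¹` for a swap `m` -/
theorem Sw.t {m : G} (s : Sw ι m) : ∃ n, n * n = 1 ∧ Cj ι n z1 z1 ∧ Cj ι n u2 u2 ∧ Cj ι n z2 (u2 * z2) ∧
    Cj ι n (u1 * z2) (u1 * z2) ∧ Cj ι n v1 v1 ∧ ∀ M : Subgroup G, ι kt ∈ M → m ∈ M → n ∈ M := by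
  have k : ∀ {x y}, Cj ι m x y → ∀ x' y', kt * x * kt⁻¹ = x' → kt * y * kt⁻¹ = y' →
      Cj ι (ι kt * m * (ι kt)⁻¹) x' y' := fun e _ _ h1 h2 => by
    rw [mul_assoc]; exact ((Cj.of' h1).symm.trans e).trans (Cj.of' h2)
  exact ⟨ι kt * m * (ι kt)⁻¹, by rw [conj_mul, s.sq]; simp,
    k s.cz _ _ (by decide +kernel) (by decide +kernel), k s.cu _ _ (by decide +kernel) (by decide +kernel),
    k s.zu _ _ (by decide +kernel) (by decide +kernel), k s.cw _ _ (by decide +kernel) (by decide +kernel),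
    k s.cv _ _ (by decide +kernel) (by decide +kernel),
    fun M h1 h2 => mul_mem (mul_mem h1 h2) (inv_mem h1)⟩

/-- an involution of `C(z1)` fixing `u2, u1 z2, v1` and moving `z2` to `u2 z2` -/
theorem LF.m1 (d : LF ι) : ∃ n, n * n = 1 ∧ Cj ι n z1 z1 ∧ Cj ι n u2 u2 ∧ Cj ι n z2 (u2 * z2) ∧
    Cj ι n (u1 * z2) (u1 * z2) ∧ Cj ι n v1 v1 := by
  obtain ⟨m, s⟩ := d.su
  obtain ⟨n, a, b, c, e, f, g, -⟩ := s.t
  exact ⟨n, a, b, c, e, f, g⟩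

/-- an involution of `C(z1)` fixing `v2, v1 z2, u1` and moving `z2` to `v2 z2` -/
theorem LF.m2 (d : LF ι) : ∃ n, n * n = 1 ∧ Cj ι n z1 z1 ∧ Cj ι n v2 v2 ∧ Cj ι n z2 (v2 * z2) ∧
    Cj ι n (v1 * z2) (v1 * z2) ∧ Cj ι n u1 u1 := by
  obtain ⟨n, a, b, c, e, f, g⟩ := d.sy.m1
  exact ⟨n, a, (cj_sg.1 b).cg (by decide +kernel) (by decide +kernel),
    (cj_sg.1 c).cg (by decide +kernel) (by decide +kernel),
    (cj_sg.1 e).cg (by decide +kernel) (by decide +kernel),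
    (cj_sg.1 f).cg (by decide +kernel) (by decide +kernel),
    (cj_sg.1 g).cg (by decide +kernel) (by decide +kernel)⟩

end Cfsg.Agent.L4W
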