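import Mathlib
import Cfsg.Agent.L4W.KD
import Cfsg.Agent.FW.SpT

/-! The Sylow 2-subgroup of `O²(C(z1))`. -/

set_option autoImplicit false
set_option linter.unusedSectionVars false

namespace Cfsg.Agent.L4W

open Subgroup Cfsg Cfsg.Agent.PLocal.Amb Cfsg.Agent.Gold Cfsg.Agent.BF Cfsg.Agent.W42 Cfsg.Agent.LyS
  Cfsg.Agent.SylT Cfsg.Agent.Lyons Cfsg.Agent.FW
open scoped MatrixGroups commutatorElement

variable {G : Type*} [Group G] [Finite G] {ι : K →* G}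

namespace KO

/-- `⟨u1 v1⟩ × D₂` -/
def kN1 : Subgroup K := TG.msub 0xf0f00f0ff0f00f0f (by decide +kernel)
/-- `⟨z1⟩ × D₂` -/
def kN2 : Subgroup K := TG.msub 0xf0f00000f0f (by decide +kernel)

instance instDecM1 (x : K) : Decidable (x ∈ kN1) := TG.instDecMem _ _ x
instance instDecM2 (x : K) : Decidable (x ∈ kN2) := TG.instDecMem _ _ x

theorem memS (d : LF ι) {x : K} (h : ι x ∈ 𝐎[2, 𝐜[ι z1]]) : x ∈ kS :=
  (cent_z1 x).1 (d.inj (by rw [map_mul, map_mul]; exact mem_centralizer_singleton_iff.1 (pRes_le _ _ h)))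

theorem nrm {x k : K} (hk : k ∈ kS) (h : ι x ∈ 𝐎[2, 𝐜[ι z1]]) : ι (k * x * k⁻¹) ∈ 𝐎[2, 𝐜[ι z1]] := by
  rw [map_mul, map_mul, map_inv]
  exact conj_mem_of_mem_normalizer (le_normalizer_pRes _ _ (cj_self.1 (Cj.of' (by
    rw [(cent_z1 k).2 hk, mul_inv_cancel_right])))) h

theorem fus (d : LF ι) {n : G} {y : K} (h1 : Cj ι n z1 z1) (h2 : Cj ι n z2 (y * z2)) : ι y ∈ 𝐎[2, 𝐜[ι z1]] := by
  obtain ⟨r, hr, _, ⟨k, hk, rfl⟩, rfl⟩ := (mem_sup_of_le_normalizer_left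
    ((sylS d.toMS).le.trans (le_normalizer_pRes 2 _))).1 ((sylS d.toMS).pRes_sup.ge (cj_self.1 h1))
  have e : Cj ι (ι k) z2 z2 := Cj.of' (by rw [(cent_z2 k).2 hk, mul_inv_cancel_right])
  have e' := (e.symm.trans h2)
  rw [Cj, mul_inv_cancel_right, map_mul, ← mul_inv_eq_iff_eq_mul] at e'
  rw [← e', mul_assoc, mul_assoc, ← mul_assoc (ι z2)]
  exact mul_mem hr (conj_mem_of_mem_normalizer (le_normalizer_pRes _ _ (map_le_c (U := kS)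
    (fun u hu => (cent_z1 u).2 hu) (mem_map_of_mem ι (by decide +kernel)))) (inv_mem hr))

theorem th (d : LF ι) {N M : Subgroup K} (hN : ∀ x, ι x ∈ 𝐎[2, 𝐜[ι z1]] → x ∈ N)
    (hM : ∀ x ∈ N, ∀ y ∈ N, x ∉ M → y ∉ M → x * y ∈ M) {u : K} (hu : ι u ∈ 𝐎[2, 𝐜[ι z1]]) (hu' : u ∉ M)
    (h2 : u * u = 1 ∨ u * u = z1 ∧ z1 ∈ M) : ∃ g, ∃ y ∈ M, Cj ι g z1 z1 ∧ Cj ι g u y := by
  have hz : z1 * z1 = 1 := by decide +kernel
  obtain ⟨g, hg, e⟩ := amb_thompson (M := M.map ι) (n := 2) (pRes_pRes 2 _)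
    ((sylS d.toMS).inf_of_le (pRes_le _ _) (le_normalizer_pRes _ _))
    (by
      rintro _ ⟨⟨x, -, rfl⟩, hx⟩ _ ⟨⟨y, -, rfl⟩, hy⟩ h1 h2
      exact ⟨x * y, hM x (hN x hx) y (hN y hy) (fun e => h1 ⟨x, e, rfl⟩) fun e => h2 ⟨y, e, rfl⟩, map_mul ι x y⟩)
    ⟨⟨u, memS d hu, rfl⟩, hu⟩ (fun e => hu' ((mem_map_iff_mem d.inj).1 e))
    (by
      rw [← map_pow, show u ^ 2 ^ 2 = u * u * (u * u) from (pow_mul u 2 2).trans (by simp only [pow_two])]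
      rcases h2 with e | ⟨e, -⟩ <;> simp [e, hz])
    (by
      rintro g hg _ ⟨k, rfl⟩ -
      rw [pow_add, ← (Commute.refl _).mul_pow, ← map_mul, ← conj_pow]
      rcases h2 with e | ⟨e, e'⟩
      · simp [e, one_mem]
      · rw [e, show g * ι z1 * g⁻¹ = ι z1 from cj_self.2 (pRes_le _ _ hg)]
        exact pow_mem (mem_map_of_mem ι e') _)
  obtain ⟨y, hy, e'⟩ := exists_cj e
  exact ⟨g, y, hy, cj_self.2 (pRes_le _ _ hg), e'⟩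

end KO

open KO in
/-- `H = C(z1)` has the Sylow subgroup `kS = D₁ × D₂`; four Thompson transfers in `O²(H)`. -/
theorem LF.res (d : LF ι) : IsSyl 2 (kD2.map ι) 𝐎[2, 𝐜[ι z1]] := by
  have hD : ∀ x ∈ kD2, ι x ∈ 𝐎[2, 𝐜[ι z1]] := fun x hx => by
    obtain ⟨n, -, a1, -, a2, -⟩ := d.m1
    obtain ⟨m, -, b1, -, b2, -⟩ := d.m2
    obtain ⟨i, j, rfl⟩ := (by decide +kernel : ∀ x ∈ kD2, ∃ (i : Fin 4) (j : Fin 2),
      x = (u2 * v2) ^ i.val * u2 ^ j.val) x hx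
    simp only [map_mul, map_pow]
    exact mul_mem (pow_mem (mul_mem (fus d a1 a2) (fus d b1 b2)) _) (pow_mem (fus d a1 a2) _)
  have hm : ∀ {x y}, ι x ∈ 𝐎[2, 𝐜[ι z1]] → y ∈ kD2 → ι (x * y) ∈ 𝐎[2, 𝐜[ι z1]] := fun hx hy => by
    rw [map_mul]; exact mul_mem hx (hD _ hy)
  have h1 : ∀ x, ι x ∈ 𝐎[2, 𝐜[ι z1]] → x ∈ kN1 := fun x hx => by
    by_contra hn
    obtain ⟨y, hy, k, hk, a1, a2, a3, a4⟩ := (by decide +kernel : ∀ x ∈ kS, x ∉ kN1 → ∃ y ∈ kD2, ∃ k ∈ kS,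
      k * (x * y) * k⁻¹ ∉ kN1 ∧ k * (x * y) * k⁻¹ * (k * (x * y) * k⁻¹) = 1 ∧ s4 (k * (x * y) * k⁻¹) ∧
        s4 (k * (x * y) * k⁻¹ * z1)) x (memS d hx) hn
    obtain ⟨g, w, hw, e1, e2⟩ := th d (M := kN1) (fun _ => memS d) (by decide +kernel) (nrm hk (hm hx hy)) a1 (.inl a2)
    exact (by decide +kernel : ∀ w ∈ kN1, s4 w → ¬ s4 (w * z1)) w hw ((d.t4 e2).1 a3) ((d.t4 (e2.mul e1)).1 a4)
  have h2 : ∀ x, ι x ∈ 𝐎[2, 𝐜[ι z1]] → x ∈ kN2 := fun x hx => by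
    by_contra hn
    obtain ⟨y, hy, a1, a2⟩ := (by decide +kernel : ∀ x ∈ kN1, x ∉ kN2 → ∃ y ∈ kD2,
      x * y ∉ kN2 ∧ x * y * (x * y) = z1) x (h1 x hx) hn
    obtain ⟨g, w, hw, e1, e2⟩ := th d (M := kN2) h1 (by decide +kernel) (hm hx hy) a1 (.inr ⟨a2, by decide +kernel⟩)
    exact (by decide +kernel : ∀ w ∈ kN2, w * w ≠ z1) w hw (((e2.mul e2).eq_iff d.inj e1).1 a2)
  have h3 : ∀ x, ι x ∈ 𝐎[2, 𝐜[ι z1]] → x ∈ kD2 := fun x hx => by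
    by_contra hn
    obtain ⟨y, hy, a1⟩ := (by decide +kernel : ∀ x ∈ kN2, x ∉ kD2 → ∃ y ∈ kD2, x * y = z1) x (h2 x hx) hn
    obtain ⟨g, w, hw, e1, e2⟩ := th d (M := kD2) h2 (by decide +kernel) (a1 ▸ hm hx hy) (by decide +kernel)
      (.inl (by decide +kernel))
    exact absurd ((e1.eq_iff d.inj e2).1 rfl ▸ hw) (by decide +kernel)
  have := (sylS d.toMS).inf_of_le (pRes_le 2 _) (le_normalizer_pRes _ _)
  rwa [show kS.map ι ⊓ 𝐎[2, 𝐜[ι z1]] = kD2.map ι from le_antisymm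
    (by rintro _ ⟨⟨x, -, rfl⟩, hx⟩; exact ⟨x, h3 x hx, rfl⟩)
    (by rintro _ ⟨x, hx, rfl⟩; exact ⟨⟨x, memS d (hD x hx), rfl⟩, hD x hx⟩)] at this

end Cfsg.Agent.L4W
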