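import Mathlib
import Cfsg.Agent.GW.Main
import Cfsg.Agent.GW.L2Facts
import Cfsg.Agent.GW.A7Facts
import Cfsg.Agent.S2119

/-! Centralizers of elements of order 4 in `Aut PSL₂(q)` and `S₇`; the action of `H` on the section
`PSL₂(q)` or `A₇` of `O²(H)` when `O²(H)` has a Sylow subgroup `D₈`. -/

set_option autoImplicit false
set_option linter.unusedSectionVars false

namespace Cfsg.Agent.L4W

open Subgroup Cfsg Cfsg.Agent.PLocal Cfsg.Agent.PLocal.Amb Cfsg.Agent.GW Cfsg.Agent.Class.Dickson Equiv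
open scoped MatrixGroups commutatorElement

theorem gam_cent {F : Type} [Field F] [Finite F] (h2 : (2 : F) ≠ 0) {w g : Gam F} (hw : piG w = 1)
    (hg : piG g = 1) (h1 : w * w ≠ 1) (h4 : w * w * (w * w) = 1) (hc : g * w = w * g) (g2 : g * g = 1) :
    g = 1 ∨ g = w * w := by
  obtain ⟨w, rfl⟩ := exists_io_of_piG hw
  obtain ⟨g, rfl⟩ := exists_io_of_piG hg
  simp only [← map_mul, io_inj, io_eq_one, Ne] at h1 h4 hc g2 ⊢
  obtain ⟨A, hA⟩ := exists_pmk (w * w)
  have ht := trace_eq_zero_of_mul_self (hA ▸ h1) (hA ▸ h4)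
  have hw : w ∈ tor A := by_contra fun r => h1 (mul_self_of_not_mem_tor h2 (by rw [← hA, mul_assoc]) r)
  have hgt : g ∈ tor A := by_contra fun r => h1 (by
    have := inverts_of_not_mem_tor h2 ht (by rw [← hA, ← mul_assoc, hc, mul_assoc, hc, mul_assoc]) r hw
    rw [hc, mul_inv_cancel_right] at this
    exact mul_eq_one_iff_eq_inv.2 this)
  exact or_iff_not_imp_left.2 fun r => (eq_of_mem_tor h2 ht hgt r g2).trans hA.symm

theorem piG_mul {F : Type} [Field F] [Finite F] {a b : Gam F} (ha : a * a = 1) (hb : b * b = 1)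
    (h1 : piG a ≠ 1) (h2 : piG b ≠ 1) : piG (a * b) = 1 := by
  have := KSG.isCyclic_ringAut F
  have k : ∀ {a : Gam F}, a * a = 1 → piG a * piG a = 1 := fun h => by rw [← map_mul, h, map_one]
  rw [map_mul, KSG.eq_of_orderOf_two (orderOf_eq_prime ((sq _).trans (k ha)) h1)
    (orderOf_eq_prime ((sq _).trans (k hb)) h2), k hb]

section a7

open A7P

/-- a transposition -/
def τ0 : Perm (Fin 7) := swap 4 5
/-- an even permutation of order 4 -/
def w0 : Perm (Fin 7) := swap 0 2 * swap 2 1 * swap 1 3 * swap 4 5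
/-- a permutation as a function -/
def toF (σ : Perm (Fin 7)) (i : ℕ) : ℕ := if h : i < 7 then σ ⟨i, h⟩ else i

theorem rF (σ : Perm (Fin 7)) : R (toF σ) σ := fun i => dif_pos i.2

theorem a7_norm {w : Perm (Fin 7)} (h : w ∈ alternatingGroup (Fin 7)) (h1 : w * w ≠ 1)
    (h4 : w * w * (w * w) = 1) : ∃ g, g * w * g⁻¹ = w0 := by
  obtain ⟨g, hg, e⟩ := exists_conj (mul_mem h h) (orderOf_eq_prime ((sq _).trans h4) h1) t0_mem orderOf_t0
  obtain ⟨f, hf, r⟩ := forall_perm (fun f => !(eqb (fun i => f (f i)) tf) || eqb f (toF (w0 * τ0)) ||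
    eqb f (toF (w0 * τ0 * t0)) || [1, c0, c0 * c0, swap 0 1, swap 0 1 * c0, swap 0 1 * c0 * c0].any fun k =>
      eqb (fun i => toF k (f i)) fun i => toF w0 (toF k i)) (by decide +kernel) (g * w * g⁻¹)
  simp only [Bool.or_eq_true, Bool.not_eq_true', ← Bool.not_eq_true, (hf.mul hf).eqb_iff R.t,
    hf.eqb_iff (rF _), List.any_eq_true, ((rF _).mul hf).eqb_iff ((rF _).mul (rF _)), conj_mul, e,
    not_true_eq_false, false_or] at r
  have h3 := Perm.mem_alternatingGroup.1 (mul_mem (mul_mem hg h) (inv_mem hg))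
  rcases r with (r | r) | ⟨k, -, r⟩
  · exact absurd (r ▸ h3) (by decide)
  · exact absurd (r ▸ h3) (by decide)
  · exact ⟨k * g, by rw [← mul_inv_eq_iff_eq_mul.2 r]; group⟩

theorem a7_cent {s : Perm (Fin 7)} (h : s * w0 = w0 * s) (h2 : s * s = 1) :
    s = 1 ∨ s = w0 * w0 ∨ s = τ0 ∨ s = t0 * τ0 := by
  have rw0 : R (lk (enc [2, 3, 1, 0, 5, 4, 6])) w0 := by unfold R; decide +kernel
  obtain ⟨f, hf, r⟩ := forall_perm (fun f => !(eqb (fun i => f (lk (enc [2, 3, 1, 0, 5, 4, 6]) i))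
    fun i => lk (enc [2, 3, 1, 0, 5, 4, 6]) (f i)) || !(eqb (fun i => f (f i)) fun i => i) ||
      [1, w0 * w0, τ0, t0 * τ0].any fun k => eqb f (toF k)) (by decide +kernel) s
  simpa only [Bool.or_eq_true, Bool.not_eq_true', ← Bool.not_eq_true, (hf.mul hf).eqb_iff R.one,
    hf.eqb_iff (rF _), List.any_eq_true, (hf.mul rw0).eqb_iff (rw0.mul hf), h, h2, not_true_eq_false,
    false_or, List.mem_cons, List.not_mem_nil, or_false, exists_eq_right'] using r

theorem a7_pow {s : Perm (Fin 7)} (h : s * (t0 * τ0) = t0 * τ0 * s) : s ^ 12 = 1 := by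
  have r0 : R (lk (enc [1, 0, 3, 2, 5, 4, 6])) (t0 * τ0) := by unfold R; decide +kernel
  obtain ⟨f, hf, r⟩ := forall_perm (fun f => !(eqb (fun i => f (lk (enc [1, 0, 3, 2, 5, 4, 6]) i))
    fun i => lk (enc [1, 0, 3, 2, 5, 4, 6]) (f i)) || eqb f^[12] fun i => i) (by decide +kernel) s
  simpa only [Bool.or_eq_true, Bool.not_eq_true', ← Bool.not_eq_true, (hf.pow _).eqb_iff R.one,
    (hf.mul r0).eqb_iff (r0.mul hf), h, not_true_eq_false, false_or] using r

theorem a7_nsolv {Y : Subgroup (Perm (Fin 7))}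
    (h : ∀ σ ∈ alternatingGroup (Fin 7), τ0 * σ = σ * τ0 → σ ∈ Y) : ¬ Group.IsSolvable Y := by
  let x : Y := ⟨swap 0 2 * swap 0 1, h _ (Perm.mem_alternatingGroup.2 (by decide)) (by decide)⟩
  let y : Y := ⟨swap 1 3 * swap 2 6, h _ (Perm.mem_alternatingGroup.2 (by decide)) (by decide)⟩
  let z : Y := ⟨swap 2 3 * swap 2 6, h _ (Perm.mem_alternatingGroup.2 (by decide)) (by decide)⟩
  have key : x = z * ⁅x, y * x * y⁻¹⁆ * z⁻¹ := Subtype.ext (by
    simp only [x, y, z, commutatorElement_def, coe_mul, coe_inv]; decide +kernel)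
  refine not_isSolvable_of_mem_derivedSeries (g := x) (fun e => absurd (congrArg Subtype.val e)
    (by simp only [x, coe_one]; decide)) fun n => ?_
  induction n with
  | zero => exact mem_top x
  | succ n ih =>
    rw [key, (derivedSeries_normal _ _).mem_comm_iff, inv_mul_cancel_left]
    exact commutator_mem_commutator ih ((derivedSeries_normal _ _).conj_mem _ ih _)

end a7

variable {G : Type*} [Group G] [Finite G]

/-- the action of `H` on a section of `O²(H)`; `I` is the group of inner automorphisms -/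
structure Sec {A : Type} [Group A] (H : Subgroup G) (α : H →* A) (I : Subgroup A) : Prop where
  ker : ∀ h : H, (h : G) ∈ 𝐎[2, H] → (α h = 1 ↔ (h : G) ∈ 𝐎₂'[𝐎[2, H]])
  sur : ∀ a ∈ I, ∃ h : H, (h : G) ∈ 𝐎[2, H] ∧ α h = a
  cen : ∀ h : H, (∀ y ∈ H, Commute (h : G) y) → α h = 1

variable {A : Type} [Group A] {H : Subgroup G} {α : H →* A} {I : Subgroup A}

theorem Sec.comp (s : Sec H α I) {B : Type} [Group B] (e : A ≃* B) {J : Subgroup B}
    (h : ∀ b ∈ J, e.symm b ∈ I) : Sec H (e.toMonoidHom.comp α) J :=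
  ⟨fun g hg => e.map_eq_one_iff.trans (s.ker g hg),
    fun b hb => (s.sur _ (h b hb)).imp fun _ r => ⟨r.1, e.eq_symm_apply.1 r.2⟩,
    fun g hg => e.map_eq_one_iff.2 (s.cen g hg)⟩

theorem Sec.lift (s : Sec H α I) {t : H} (ht : t * t = 1) {a : A} (ha : a ∈ I) (h : Commute (α t) a) :
    ∃ k, Commute k t ∧ α k = a := by
  obtain ⟨y, hy, rfl⟩ := s.sur a ha
  have h1 : ((⁅y, t⁆ : H) : G) ∈ 𝐎[2, H] := by
    rw [commutatorElement_def, mul_assoc, mul_assoc, ← mul_assoc t]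
    exact mul_mem hy (conj_mem_of_mem_normalizer (le_normalizer_pRes 2 H t.2) (inv_mem hy))
  obtain ⟨v, hv, e⟩ := lift_comm (odd_card_core _) (congrArg Subtype.val ht) ((s.ker _ h1).1 (by
    rw [map_commutatorElement, commutatorElement_eq_one_iff_mul_comm, h.eq]))
  have h2 := ppcOf_le 2 _ hv
  exact ⟨⟨v, pRes_le 2 H h2⟩ * y, Subtype.ext e, by rw [map_mul, (s.ker _ h2).2 hv, one_mul]⟩

theorem Sec.odd (s : Sec H α I) {h : H} (e : α h = 1) (ho : Odd (orderOf h)) :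
    (h : G) ∈ 𝐎₂'[𝐎[2, H]] :=
  (s.ker h (mem_pRes h.2 (Nat.coprime_two_right.2 (by rwa [orderOf_coe])))).1 e

theorem Sec.solv (s : Sec H α I) {C : Subgroup G} (hC : C ≤ H)
    (h : Group.IsSolvable ((C.subgroupOf H).map α)) : Group.IsSolvable C := by
  let ψ : C →* (C.subgroupOf H).map α := (α.comp (inclusion hC)).codRestrict _ fun x => ⟨_, x.2, rfl⟩
  have h1 : Group.IsSolvable (α.ker.map H.subtype) := by
    refine BT.solvable_of_npc (Transfer.hasNormalPComplement_iff_coprime.2 ?_)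
    rw [← Subgroup.card_map_of_injective (subtype_injective _)]
    refine (Nat.coprime_two_right.2 (odd_card_core 𝐎[2, H])).coprime_dvd_left (card_dvd_of_le ?_)
    rw [pRes_le_iff]
    rintro _ ⟨g, hg, rfl⟩ ho
    exact s.odd hg (by rw [← orderOf_coe]; exact Nat.coprime_two_right.1 ho)
  have : Group.IsSolvable ψ.ker := Group.isSolvable_of_isSolvable_injective
    (f := (C.subtype.comp ψ.ker.subtype).codRestrict (α.ker.map H.subtype) fun x =>
      ⟨inclusion hC x.1, congrArg Subtype.val x.2, rfl⟩)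
    fun x y e => Subtype.ext (Subtype.ext (by have := congrArg Subtype.val e; exact this))
  exact Group.isSolvable_of_ker_le_range ψ.ker.subtype ψ (range_subtype _).ge

theorem Sec.a7 {β : H →* Perm (Fin 7)} (s : Sec H β (alternatingGroup (Fin 7))) {w a b : H}
    (hw : β w ∈ alternatingGroup (Fin 7)) (h1 : β w * β w ≠ 1) (h4 : β w * β w * (β w * β w) = 1)
    (a2 : a * a = 1) (b2 : b * b = 1) (ca : a * w = w * a) (cb : b * w = w * b) (a1 : β a ≠ 1)
    (b1 : β b ≠ 1) (aw : β a ≠ β w * β w) (bw : β b ≠ β w * β w) (ab : β a ≠ β b)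
    (hs : Group.IsSolvable ↥(H ⊓ 𝐜[(a : G)]) ↔ Group.IsSolvable ↥(H ⊓ 𝐜[(b : G)])) : False := by
  obtain ⟨g, e⟩ := a7_norm hw h1 h4
  have s' := s.comp (MulAut.conj g) (J := alternatingGroup _) fun b hb => by
    simpa using Normal.conj_mem inferInstance b hb g⁻¹
  set γ := (MulAut.conj g).toMonoidHom.comp β
  have e' : γ w = w0 := e
  have i := (MulAut.conj g).injective
  have k : ∀ {a : H}, a * a = 1 → a * w = w * a → β a ≠ 1 → β a ≠ β w * β w →
      γ a = τ0 ∨ γ a = A7P.t0 * τ0 := fun {a} a2 ca a1 aw =>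
    ((a7_cent (s := γ a) (by rw [← e', ← map_mul, ca, map_mul]) (by rw [← map_mul, a2, map_one])).resolve_left
      fun r => a1 (i (r.trans (map_one _).symm))).resolve_left fun r => aw (i (by
        rw [map_mul]; exact r.trans (by rw [← e']; rfl)))
  have n : ∀ {a : H}, a * a = 1 → γ a = τ0 → ¬ Group.IsSolvable ↥(H ⊓ 𝐜[(a : G)]) := fun {a} a2 r h => by
    refine a7_nsolv (Y := ((H ⊓ 𝐜[(a : G)]).subgroupOf H).map γ) (fun σ hσ hc => ?_) ?_
    · obtain ⟨k, c, rfl⟩ := s'.lift a2 hσ (r ▸ hc)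
      exact ⟨k, ⟨k.2, mem_centralizer_singleton_iff.2 (congrArg Subtype.val c.eq)⟩, rfl⟩
    · have := Group.isSolvable_of_surjective (f := (subgroupOfEquivOfLe
        (inf_le_left : H ⊓ 𝐜[(a : G)] ≤ H)).symm.toMonoidHom) (MulEquiv.surjective _)
      exact Group.isSolvable_of_surjective (γ.subgroupMap_surjective _)
  have p : ∀ {a : H}, γ a = A7P.t0 * τ0 → Group.IsSolvable ↥(H ⊓ 𝐜[(a : G)]) := fun {a} r =>
    s'.solv inf_le_left (A7P.solvable_of_pow (by
      rintro _ ⟨k, hk, rfl⟩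
      refine a7_pow ?_
      rw [← r, ← map_mul, ← map_mul]
      exact congrArg γ (Subtype.ext (mem_centralizer_singleton_iff.1 hk.2))))
  rcases k a2 ca a1 aw with r | r <;> rcases k b2 cb b1 bw with r' | r'
  exacts [ab (i (r.trans r'.symm)), n a2 r (hs.2 (p r')), n b2 r' (hs.1 (p r)), ab (i (r.trans r'.symm))]

theorem sec_of {P : Type} [Group P] {L : Subgroup G} (hL : L ≤ 𝐎[2, H]) (hn : H ≤ 𝐍[L]) (f : L →* P)
    (hf : Function.Surjective f) (hk : ∀ x : L, f x = 1 ↔ (x : G) ∈ 𝐎₂'[𝐎[2, H]])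
    (hc : ∀ x ∈ 𝐎[2, H], (∀ y ∈ L, ⁅x, y⁆ ∈ 𝐎₂'[𝐎[2, H]]) → x ∈ 𝐎₂'[𝐎[2, H]]) :
    ∃ α : H →* MulAut P, Sec H α (MulAut.conj : P →* MulAut P).range := by
  have hO := (le_normalizer_pRes 2 H).trans (BT.normalizer_le_ppcOf 2 _)
  obtain ⟨Φ, hΦ⟩ := exists_induced f hf (L.normalizerMonoidHom.comp (inclusion hn))
    fun a y hy => (hk _).2 (conj_mem_of_mem_normalizer (hO a.2) ((hk y).1 hy))
  have key : ∀ x : H, Φ x = 1 ↔ ∀ y ∈ L, ⁅(x : G), y⁆ ∈ 𝐎₂'[𝐎[2, H]] := fun x => by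
    refine ⟨fun e y hy => ?_, fun hx => MulEquiv.ext fun z => ?_⟩
    · have := hΦ x ⟨y, hy⟩
      rw [e, MulAut.one_apply, eq_comm, ← mul_inv_eq_one, ← map_inv, ← map_mul, hk] at this
      exact this
    · obtain ⟨y, rfl⟩ := hf z
      rw [hΦ, MulAut.one_apply, ← mul_inv_eq_one, ← map_inv, ← map_mul, hk]
      exact hx y y.2
  refine ⟨Φ, fun x hx => (key x).trans ⟨hc x hx, fun h y hy => ?_⟩, ?_, fun x hx => (key x).2 fun y hy => ?_⟩
  · rw [commutatorElement_def, mul_assoc, mul_assoc, ← mul_assoc y]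
    exact mul_mem h (conj_mem_of_mem_normalizer (hO (pRes_le 2 H (hL hy))) (inv_mem h))
  · rintro _ ⟨a, rfl⟩
    obtain ⟨y, rfl⟩ := hf a
    refine ⟨⟨y, pRes_le 2 H (hL y.2)⟩, hL y.2, MulEquiv.ext fun z => ?_⟩
    obtain ⟨w, rfl⟩ := hf z
    rw [hΦ, MulAut.conj_apply, ← map_inv, ← map_mul, ← map_mul]
    rfl
  · rw [commutatorElement_eq_one_iff_commute.2 (hx y (pRes_le 2 H (hL hy)))]
    exact one_mem _

theorem dsub_of_syl {S N : Subgroup G} (hS : IsSyl 2 S N) (e : S ≃* DihedralGroup 4) : DSub N := by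
  obtain ⟨P, hP⟩ := hS.exists_sylow
  have h := Mn.dsub_of_dihSyl (G := N) ⟨P, 4, by norm_num, ⟨(MulEquiv.subgroupCongr hP).trans
    ((subgroupOfEquivOfLe hS.le).trans e)⟩⟩ ⊤
  refine ⟨fun T hT h2 => ?_, fun H hH K _ h1 h2 => h.known_of_surj le_top
    ((QuotientGroup.mk' K).comp (subgroupOfEquivOfLe hH).toMonoidHom)
    ((QuotientGroup.mk'_surjective K).comp (subgroupOfEquivOfLe hH).surjective) h1 h2⟩
  have e := subgroupOfEquivOfLe hT
  exact (h.two _ le_top (Amb.isPGroup_subgroupOf h2 _)).imp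
    (fun r => @isCyclic_of_surjective _ _ _ _ _ r _ _ e e.surjective)
    fun ⟨n, hn, ⟨f⟩⟩ => ⟨n, hn, ⟨e.symm.trans f⟩⟩

theorem exists_sec {S : Subgroup G} (hS : IsSyl 2 S 𝐎[2, H]) (e : S ≃* DihedralGroup 4) :
    (∃ (F : Type) (_ : Field F) (_ : Fintype F), Odd (Fintype.card F) ∧ 3 < Fintype.card F ∧
      ∃ α : H →* MulAut PSL(2, F), Sec H α (MulAut.conj : PSL(2, F) →* _).range) ∨
    ∃ β : H →* Perm (Fin 7), Sec H β (alternatingGroup (Fin 7)) := by
  have hD := dsub_of_syl hS e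
  have hN := le_normalizer_pRes 2 H
  have hT : pResidual 2 𝐎[2, H] = ⊤ := by
    rw [← pRes_subgroupOf 2 𝐎[2, H], pRes_pRes, subgroupOf_self]
  obtain ⟨w, hw, w2, w4⟩ : ∃ w ∈ S, w * w ≠ 1 ∧ w * w * (w * w) = 1 :=
    ⟨e.symm (.r 1), (e.symm _).2, fun r => absurd (e.symm.injective (by
      rw [map_mul, map_one]; exact Subtype.ext r) : (.r 1 * .r 1 : DihedralGroup 4) = 1) (by decide), by
      simp only [← coe_mul, ← map_mul]
      rw [show (.r 1 * .r 1 * (.r 1 * .r 1) : DihedralGroup 4) = 1 by decide, map_one, coe_one]⟩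
  have no : ∀ {O : Subgroup G}, Odd (Nat.card O) → w * w ∉ O := fun h r =>
    w2 (eq_one_of_odd_of_mul_self (odd_orderOf_of_mem_odd h r) w4)
  have s4 : ∀ f : 𝐎[2, H] →* Perm (Fin 4), (∀ x, f x = 1 ↔ (x : G) ∈ 𝐎₂'[𝐎[2, H]]) → False :=
    fun f hf => by
      have h1 := Transfer.pResidual_le_ker (Perm.sign.comp f) (IsPGroup.of_card (p := 2) (n := 1) (by simp))
      rw [hT] at h1
      have h2 := (by decide +kernel : ∀ x : Perm (Fin 4), Perm.sign x = 1 → x * x * (x * x) = 1 → x * x = 1)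
        (f ⟨w, hS.le hw⟩) (h1 (mem_top _)) (by
          rw [← map_mul, ← map_mul, ← map_one f]; exact congrArg f (Subtype.ext w4))
      rw [← map_mul, hf] at h2
      exact no (odd_card_core _) h2
  rcases hD.trichotomy with h | (⟨f, -, h⟩ | ⟨f, -, h⟩) | ⟨L, q, h⟩ | ⟨f, hf, h⟩
  · have h1 := Transfer.hasNormalPComplement_iff_coprime.1 h
    rw [hT, card_top] at h1
    exact (no (Nat.coprime_two_right.1 h1) (hS.le (mul_mem hw hw))).elim
  · exact (s4 ((alternatingGroup _).subtype.comp f) fun x => by rw [← h, Subtype.ext_iff]; rfl).elim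
  · exact (s4 f h).elim
  · have s := h.socT hD
    obtain ⟨F, _, _, rfl, h1, h2, f, hf, hk⟩ := h.iso
    refine Or.inl ⟨F, _, _, h1, h2, sec_of h.le ?_ f hf hk h.cent⟩
    rw [le_antisymm (s.perfect.trans (sup_le_sup_right (commutator_mono s.le s.le) _))
      (sup_le s.comm_le s.core_le)]
    exact le_normalizer_sup (le_normalizer_commutator hN hN) (hN.trans (BT.normalizer_le_ppcOf 2 _))
  · obtain ⟨α, s⟩ := sec_of le_rfl hN f hf h fun x hx hy => (h ⟨x, hx⟩).1 (by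
      rw [← mem_bot, ← alternatingGroup.center_eq_bot (by simp), mem_center_iff]
      intro z
      obtain ⟨y, rfl⟩ := hf z
      rw [eq_comm, ← commutatorElement_eq_one_iff_mul_comm, ← map_commutatorElement, h]
      exact hy y y.2)
    refine Or.inr ⟨_, s.comp (MulEquiv.ofBijective _ (S2119.result 7 (by norm_num) (by norm_num))).symm
      fun b hb => ⟨⟨b, hb⟩, MulEquiv.ext fun y => Subtype.ext ?_⟩⟩
    simp

end Cfsg.Agent.L4W
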