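import Mathlib
import Cfsg.Agent.L4W.KO
import Cfsg.Agent.L4W.KS1a

/-! The section `PSL₂(r)` of `C(z1)`. -/

set_option autoImplicit false
set_option linter.unusedSectionVars false

namespace Cfsg.Agent.L4W

open Subgroup Cfsg Cfsg.Agent.PLocal.Amb Cfsg.Agent.Gold Cfsg.Agent.BF Cfsg.Agent.W42 Cfsg.Agent.LyS
  Cfsg.Agent.SylT Cfsg.Agent.Lyons Cfsg.Agent.FW
open scoped MatrixGroups commutatorElement
open AltC (D8 xx zz)
open Cfsg.Agent.Class.Dickson

variable {G : Type*} [Group G] [Finite G] {ι : K →* G}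

/-- the Sylow subgroup `D₈ × D₈` of `C(z1)` -/
def fi (ι : K →* G) : D8 × D8 →* 𝐜[ι z1] := (ι.comp χ).codRestrict _ fun p =>
  map_le_c (fun u hu => (cent_z1 u).2 hu) (mem_map_of_mem ι (χ_mem p))

theorem d2_iff : ∀ x, x ∈ kD2 ↔ ∃ b, χ (1, b) = x := by decide +kernel

theorem LF.rel (d : LF ι) {A : Type} [Group A] {α : 𝐜[ι z1] →* A} {I : Subgroup A} (s : Sec _ α I)
    (hI : ∀ a b : A, ⁅a, b⁆ ∈ I) : (∀ b, α (fi ι (1, b)) ∈ I) ∧ (∀ b, α (fi ι (1, b)) = 1 → b = 1) ∧
      α (fi ι (zz, 1)) = 1 ∧ (∀ i, α (fi ι (xx i, 1)) ≠ 1 ∧ α (fi ι (xx i, zz)) ≠ 1) ∧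
      α (fi ι (xx false, 1)) ≠ α (fi ι (xx true, 1)) := by
  have ne : ∀ b, α (fi ι (1, b)) = 1 → b = 1 := fun b e => by
    have h := mem_map_of_mem ι ((d2_iff _).2 ⟨b, rfl⟩)
    exact congrArg Prod.snd (χ_inj ((d.inj ((eq_one_of_odd d.res.pgrp h (odd_orderOf (GW.odd_card_core _)
      ((s.ker _ (d.res.le h)).1 e))).trans (map_one ι).symm)).trans (map_one χ).symm))
  have t : ∀ {n x y} (hn : Cj ι n z1 z1) (p q : D8 × D8), Cj ι n x y → χ p = x ∧ χ q = y →
      Cj (α.comp (fi ι)) (α ⟨n, cj_self.1 hn⟩) p q := fun hn p q e h => by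
    rw [Cj, MonoidHom.comp_apply, ← map_inv, ← map_mul, ← map_mul]
    exact congrArg α (Subtype.ext (e.cg h.1.symm h.2.symm))
  obtain ⟨m, -, m0, -, m2, m3, m4⟩ := d.m1
  obtain ⟨n, -, n0, -, n2, n3, n4⟩ := d.m2
  have a1 := t m0 (1, zz) (1, xx false * zz) m2 (by decide +kernel)
  have a2 := t m0 (xx false, 1) ((xx false, 1) * (1, xx false)) (m3.mul m2) (by decide +kernel)
  have a3 := t m0 (xx true, 1) (xx true, 1) m4 (by decide +kernel)
  have a4 := t m0 (xx true, zz) ((xx true, zz) * (1, xx false)) (m4.mul m2) (by decide +kernel)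
  have b1 := t n0 (1, zz) (1, xx true * zz) n2 (by decide +kernel)
  have b2 := t n0 (xx true, 1) ((xx true, 1) * (1, xx true)) (n3.mul n2) (by decide +kernel)
  have b4 := t n0 (xx false, zz) ((xx false, zz) * (1, xx true)) (n4.mul n2) (by decide +kernel)
  have k : ∀ {g p i}, Cj (α.comp (fi ι)) g p (p * (1, xx i)) → ¬ Cj (α.comp (fi ι)) g p p :=
    fun {g p i} e e' => absurd (ne (xx i) (by simpa using (Eq.symm e).trans e')) (by cases i <;> decide)
  have k1 : ∀ {g p i}, Cj (α.comp (fi ι)) g p (p * (1, xx i)) → α (fi ι p) ≠ 1 := fun e r =>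
    k e (by rw [Cj, MonoidHom.comp_apply, r, mul_one, mul_inv_cancel])
  have hz : (α.comp (fi ι)) (1, zz) ∈ I := by
    rw [show ((1, zz) : D8 × D8) = ⁅((1, xx false) : D8 × D8), (1, xx true)⁆ by decide, map_commutatorElement]
    exact hI _ _
  have hc : ∀ {g q}, Cj (α.comp (fi ι)) g (1, zz) q → (α.comp (fi ι)) q ∈ I := fun {g q} e => by
    rw [← e, ← inv_mul_cancel_right (g * _ * _) ((α.comp (fi ι)) (1, zz))]
    exact mul_mem (hI _ _) hz
  refine ⟨fun b => ?_, ne, s.cen _ fun y hy => ?_, fun i => ?_, fun r => k a2 ?_⟩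
  · obtain ⟨i, j, l, e⟩ := (by decide : ∀ b : D8, ∃ i j l : Fin 2, ((1, b) : D8 × D8) =
      (1, xx false * zz) ^ i.val * (1, xx true * zz) ^ j.val * (1, zz) ^ l.val) b
    rw [e, ← MonoidHom.comp_apply, map_mul, map_mul, map_pow, map_pow, map_pow]
    exact mul_mem (mul_mem (pow_mem (hc a1) _) (pow_mem (hc b1) _)) (pow_mem hz _)
  · change Commute (ι (χ _)) y
    rw [χ_val.1]
    exact (mem_centralizer_singleton_iff.1 hy).symm
  · cases i
    exacts [⟨k1 a2, k1 b4⟩, ⟨k1 b2, k1 a4⟩]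
  · rw [Cj, MonoidHom.comp_apply, r]
    exact a3

/-- `H = C(z1)` acts on the section `PSL₂(F)` or `A₇` of `O²(H)` (`exists_sec`); the second case contradicts
`hs`. -/
theorem LF.exK (d : LF ι) (hs : Group.IsSolvable ↥(𝐜[ι z1] ⊓ 𝐜[ι (u1 * z2)]) ↔
    Group.IsSolvable ↥(𝐜[ι z1] ⊓ 𝐜[ι (v1 * z2)])) :
    ∃ (F : Type) (_ : Field F) (_ : Fintype F) (α : 𝐜[ι z1] →* MulAut PSL(2, F)), HK ι α := by
  have hD : ((ι.comp χ).comp (MonoidHom.inr D8 D8)).range = kD2.map ι := by
    ext g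
    exact ⟨fun ⟨b, e⟩ => ⟨_, (d2_iff _).2 ⟨b, rfl⟩, e⟩, fun ⟨x, hx, e⟩ =>
      ((d2_iff x).1 hx).imp fun _ r => (congrArg ι r).trans e⟩
  have m : ∀ p q r : D8 × D8, p * q = r → fi ι p * fi ι q = fi ι r := fun p q r e => by rw [← map_mul, e]
  have sq : ∀ p : D8 × D8, p * p = 1 → fi ι p * fi ι p = 1 := fun p e => by rw [← map_mul, e, map_one]
  have cm : ∀ p q : D8 × D8, p * q = q * p → fi ι p * fi ι q = fi ι q * fi ι p := fun p q e => by
    rw [← map_mul, e, map_mul]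
  have w2 := m (1, xx false * xx true) (1, xx false * xx true) (1, zz) (by decide)
  have z2 := sq (1, zz) (by decide)
  rcases exists_sec d.res ((MulEquiv.subgroupCongr hD.symm).trans (MonoidHom.ofInjective
    ((d.inj.comp χ_inj).comp (Prod.mk_right_injective 1))).symm) with ⟨F, _, _, h1, h2, α, s⟩ | ⟨β, s⟩
  · have h3 := two_ne_zero_of_odd_card h1
    obtain ⟨r1, r2, r3, r4, r5⟩ := d.rel s fun a b => by
      obtain ⟨_, ⟨x, rfl⟩, e⟩ := commutator_mem_io h3 a b
      exact ⟨x, (io_pslTo x).symm.trans e⟩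
    have k : ∀ p : D8 × D8, p * (1, xx false * xx true) = (1, xx false * xx true) * p →
        piG (α (fi ι p)) = 1 → α (fi ι p) * α (fi ι p) = 1 →
        α (fi ι p) = 1 ∨ α (fi ι p) = α (fi ι (1, zz)) := fun p c e e' => by
      obtain ⟨x, hx⟩ := r1 (xx false * xx true)
      have := gam_cent h3 (w := α (fi ι (1, xx false * xx true))) (by rw [← hx, ← io_pslTo, piG_io]) e
        (by rw [← map_mul, w2]; exact fun r => absurd (r2 _ r) (by decide))
        (by rw [← map_mul, w2, ← map_mul, z2, map_one]) (by rw [← map_mul, cm _ _ c, map_mul]) e'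
      rwa [← map_mul, w2] at this
    have i2 : ∀ i, α (fi ι (xx i, 1)) * α (fi ι (xx i, 1)) = 1 := fun i => by
      rw [← map_mul, sq _ (by revert i; decide), map_one]
    have k1 : ∀ i, piG (α (fi ι (xx i, 1))) ≠ 1 := fun i e =>
      (k _ (by cases i <;> decide) e (i2 i)).elim (r4 i).1 fun r => (r4 i).2 (by
        rw [← m (xx i, 1) (1, zz) _ (by simp), map_mul, r, ← map_mul, z2, map_one])
    have e := m (xx false, 1) (xx true, 1) _ rfl
    have k2 := (k ((xx false, 1) * (xx true, 1)) (by decide) (by rw [← e, map_mul, piG_mul (i2 _) (i2 _) (k1 _) (k1 _)]) (by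
      rw [← map_mul, m _ _ (zz, 1) (by decide), r3])).resolve_left fun r => r5 (by
        rw [← e, map_mul, ← i2 true] at r; exact mul_right_cancel r)
    have hN := le_normalizer_pRes 2 𝐜[ι z1]
    refine ⟨F, _, _, α, h1, h2, fun h e ho => le_oc ((PLocal.ppcOf_le 2 _).trans (pRes_le 2 _))
      (hN.trans (GW.BT.normalizer_le_ppcOf 2 _)) (GW.odd_card_core _) (s.odd e ho), fun h x hx r => ?_,
      fun h x hx r r' => ?_, fun h r => ?_, fun t ht a c => s.lift ht ⟨a, rfl⟩ c⟩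
    · obtain ⟨b, rfl⟩ := (d2_iff x).1 hx
      rw [show h = fi ι (1, b) from Subtype.ext r]
      exact (r1 b).imp fun _ => Eq.symm
    · obtain ⟨b, rfl⟩ := (d2_iff x).1 hx
      rw [show h = fi ι (1, b) from Subtype.ext r] at r'
      rw [r2 b r']
      exact map_one χ
    · rw [show h = fi ι ((xx false, 1) * (xx true, 1) * (1, zz)) from
        Subtype.ext (r.trans (congrArg ι (by decide +kernel))), map_mul, map_mul, k2, ← map_mul, z2, map_one]
  · obtain ⟨r1, r2, -, r4, r5⟩ := d.rel s fun a b => Equiv.Perm.mem_alternatingGroup.2 (by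
      rw [map_commutatorElement, commutatorElement_eq_one_iff_mul_comm, mul_comm])
    have e : ∀ i, fi ι (xx i, 1) * fi ι (1, zz) = fi ι (xx i, zz) := fun i => m _ _ _ (by simp)
    have k : ∀ i, β (fi ι (xx i, zz)) ≠ β (fi ι (1, xx false * xx true)) * β (fi ι (1, xx false * xx true)) :=
      fun i r => (r4 i).1 (by rw [← map_mul, w2, ← e, map_mul] at r; exact mul_eq_right.1 r)
    refine (s.a7 (r1 _) (by rw [← map_mul, w2]; exact fun r => absurd (r2 _ r) (by decide))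
      (by rw [← map_mul, w2, ← map_mul, z2, map_one]) (sq _ (by decide)) (sq _ (by decide))
      (cm _ _ (by decide)) (cm _ _ (by decide)) (r4 false).2 (r4 true).2 (k _) (k _) (fun r => r5 (by
        rw [← e, ← e, map_mul, map_mul] at r; exact mul_right_cancel r)) ?_).elim
    rwa [show (fi ι (xx false, zz) : G) = ι (u1 * W42.z2) from congrArg ι (by decide +kernel),
      show (fi ι (xx true, zz) : G) = ι (v1 * W42.z2) from congrArg ι (by decide +kernel)]

end Cfsg.Agent.L4W
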