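import Mathlib
import Cfsg.Agent.L4W.KD
import Cfsg.Agent.Class.PGammaL2
import Cfsg.Agent.Gold.CharPAux1

/-! Balance in `C(z1)`. -/

set_option autoImplicit false
set_option linter.unusedSectionVars false

namespace Cfsg.Agent.L4W

open Subgroup Cfsg Cfsg.Agent.PLocal.Amb Cfsg.Agent.Gold Cfsg.Agent.BF Cfsg.Agent.W42 Cfsg.Agent.LyS
  Cfsg.Agent.SylT Cfsg.Agent.Lyons Cfsg.Agent.FW
open scoped MatrixGroups commutatorElement

namespace KS2

open Cfsg.Agent.Class.Dickson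

variable {F : Type} [Field F] [Fintype F]

/-- a four-group of `PGL₂(F)` -/
structure Four (a w : PGL(2, F)) : Prop where
  two : (2 : F) ≠ 0
  a1 : a ≠ 1
  w1 : w ≠ 1
  ne : a ≠ w
  a2 : a * a = 1
  w2 : w * w = 1
  cm : a * w = w * a

theorem Four.symm {a w : PGL(2, F)} (f : Four a w) : Four w a :=
  ⟨f.two, f.w1, f.a1, f.ne.symm, f.w2, f.a2, f.cm.symm⟩

theorem Four.tr {A : GL (Fin 2) F} {w : PGL(2, F)} (f : Four (pmk A) w) :
    (A : Matrix (Fin 2) (Fin 2) F).trace = 0 := trace_eq_zero_of_mul_self f.a1 f.a2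

theorem Four.nt {A : GL (Fin 2) F} {w : PGL(2, F)} (f : Four (pmk A) w) : w ∉ tor A := fun h =>
  f.ne (eq_of_mem_tor f.two f.tr h f.w1 f.w2).symm

theorem Four.inv {A : GL (Fin 2) F} {w y : PGL(2, F)} (f : Four (pmk A) w) (hy : y ∈ tor A) :
    w * y * w⁻¹ = y⁻¹ := inverts_of_not_mem_tor f.two f.tr f.cm.symm f.nt hy

theorem Four.odd {a w s : PGL(2, F)} (f : Four a w) (o : Odd (orderOf s)) (h1 : s * a = a * s)
    (h2 : s * w = w * s) : s = 1 := by
  obtain ⟨A, rfl⟩ := exists_pmk a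
  have := f.inv (mem_tor_of_odd f.two h1 o)
  rw [← h2, mul_inv_cancel_right, eq_inv_iff_mul_eq_one] at this
  exact eq_one_of_odd_of_mul_self o this

theorem io_comm {g h : PGL(2, F)} : Commute (io g) (io h) ↔ g * h = h * g := by
  rw [Commute, SemiconjBy, ← map_mul, ← map_mul, io_inj]

theorem exists_fix {Γ : Type*} [Group Γ] [Finite Γ] {R : Subgroup Γ} (hc : ∀ x ∈ R, ∀ y ∈ R, x * y = y * x)
    (h : R ≠ ⊥) {e f : Γ} (he : e ∈ 𝐍[R]) (hf : f ∈ 𝐍[R]) (e2 : e * e = 1) (f2 : f * f = 1) :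
    ∃ x ∈ R, x ≠ 1 ∧ (Commute x e ∨ Commute x f ∨ Commute x (f * e)) := by
  obtain ⟨⟨x, hx⟩, h1⟩ := ne_bot_iff_exists_ne_one.1 h
  have h1 : x ≠ 1 := fun r => h1 (Subtype.ext r)
  have k : ∀ e ∈ 𝐍[R], e * e = 1 → (∃ y ∈ R, y ≠ 1 ∧ Commute y e) ∨ e * x * e⁻¹ = x⁻¹ := by
    intro e he e2
    have hx' := conj_mem_of_mem_normalizer he hx
    by_cases r : x * (e * x * e⁻¹) = 1
    · exact Or.inr (eq_inv_of_mul_eq_one_right r)
    · refine Or.inl ⟨_, mul_mem hx hx', r, ?_⟩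
      have ei : e⁻¹ = e := inv_eq_of_mul_eq_one_right e2
      have : e * (x * (e * x * e⁻¹)) * e⁻¹ = x * (e * x * e⁻¹) := by
        rw [hc _ hx _ hx']
        calc e * (e * x * e⁻¹ * x) * e⁻¹ = (e * e) * x * (e⁻¹ * x * e⁻¹) := by group
          _ = x * (e * x * e⁻¹) := by rw [e2, ei]; group
          _ = e * x * e⁻¹ * x := hc _ hx _ hx'
      exact comm_of_conj_eq this
  rcases k e he e2 with ⟨y, a, b, c⟩ | r
  · exact ⟨y, a, b, Or.inl c⟩
  rcases k f hf f2 with ⟨y, a, b, c⟩ | r'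
  · exact ⟨y, a, b, Or.inr (Or.inl c)⟩
  refine ⟨x, hx, h1, Or.inr (Or.inr (comm_of_conj_eq ?_))⟩
  calc f * e * x * (f * e)⁻¹ = f * (e * x * e⁻¹) * f⁻¹ := by group
    _ = (f * x * f⁻¹)⁻¹ := by rw [r]; group
    _ = x := by rw [r', inv_inv]

theorem move {Γ : Type*} [Group Γ] {R : Subgroup Γ} {n e f : Γ} (hn : n ∈ 𝐍[R]) (h : n * e * n⁻¹ = f) :
    (∃ x ∈ R, x ≠ 1 ∧ Commute x e) ↔ ∃ x ∈ R, x ≠ 1 ∧ Commute x f := by
  have k : ∀ {n e f : Γ}, n ∈ 𝐍[R] → n * e * n⁻¹ = f → (∃ x ∈ R, x ≠ 1 ∧ Commute x e) →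
      ∃ x ∈ R, x ≠ 1 ∧ Commute x f := by
    rintro n e _ hn rfl ⟨x, a, b, c⟩
    exact ⟨_, conj_mem_of_mem_normalizer hn a, by simpa using b, c.map (MulAut.conj n)⟩
  exact ⟨k hn h, k (inv_mem hn) (by rw [← h]; group)⟩

/-- an odd order group of inner-diagonal automorphisms normalized by a four-group whose involutions
are fused in the normalizer is trivial -/
theorem Four.bot {a w : PGL(2, F)} (f : Four a w) {D : Subgroup (Gam F)} (hD : D ≤ io.range)
    (o : Odd (Nat.card D)) (ha : io a ∈ 𝐍[D]) (hw : io w ∈ 𝐍[D]) {n t : Gam F} (hn : n ∈ 𝐍[D])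
    (ht : t ∈ 𝐍[D]) (e1 : n * io a * n⁻¹ = io w * io a) (e2 : t * io w * t⁻¹ = io w * io a) :
    D = ⊥ := by
  by_contra h
  obtain ⟨r, hr, h0⟩ := Solv.NA.exists_pCoreOf_ne_bot (S0205.result o) h
  have := Fact.mk hr
  have N := normalizer_le_normalizer_pCoreOf r D
  have hR := pCoreOf_le r D
  have pR := isPGroup_pCoreOf r D
  generalize pCoreOf r D = R at h0 N hR pR
  have oR := odd_of_le hR o
  have r2 : r ≠ 2 := by
    rintro rfl
    exact h0 ((eq_bot_iff_forall _).2 fun x hx => eq_one_of_odd pR hx (odd_orderOf oR hx))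
  have pR' : IsPGroup r (R.comap io) := pR.comap_of_injective _ io_injective
  have hc : ∀ x ∈ R, ∀ y ∈ R, x * y = y * x := by
    intro x hx y hy
    obtain ⟨x, rfl⟩ := hD (hR hx)
    obtain ⟨y, rfl⟩ := hD (hR hy)
    by_cases h1 : x = 1
    · simp [h1]
    obtain ⟨X, rfl⟩ := exists_pmk x
    have := le_tor_of_pgroup r2 pR' (U := X) hx h1
    exact io_comm.2 (tor_comm h1 (this hx) (this hy))
  have m1 := move (N hn) e1
  have m2 := move (N ht) e2
  have k : (∃ x ∈ R, x ≠ 1 ∧ Commute x (io a)) ∧ ∃ x ∈ R, x ≠ 1 ∧ Commute x (io w) := by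
    obtain ⟨x, hx, h1, c | c | c⟩ := exists_fix hc h0 (N ha) (N hw)
      (by rw [← map_mul, f.a2, map_one]) (by rw [← map_mul, f.w2, map_one])
    · exact ⟨⟨x, hx, h1, c⟩, m2.2 (m1.1 ⟨x, hx, h1, c⟩)⟩
    · exact ⟨m1.2 (m2.1 ⟨x, hx, h1, c⟩), ⟨x, hx, h1, c⟩⟩
    · exact ⟨m1.2 ⟨x, hx, h1, c⟩, m2.2 ⟨x, hx, h1, c⟩⟩
  obtain ⟨⟨x, hx, x1, cx⟩, y, hy, y1, cy⟩ := k
  have ox := odd_orderOf oR hx
  have oy := odd_orderOf oR hy
  have cxy := hc x hx y hy
  obtain ⟨x, rfl⟩ := hD (hR hx)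
  obtain ⟨y, rfl⟩ := hD (hR hy)
  rw [orderOf_injective _ io_injective] at ox oy
  rw [ne_eq, io_eq_one] at x1 y1
  obtain ⟨A, rfl⟩ := exists_pmk a
  obtain ⟨X, rfl⟩ := exists_pmk x
  have h1 := mem_tor_of_odd f.two (io_comm.1 cx) ox
  have h2 := mem_tor_of_odd f.two (io_comm.1 cxy).symm oy
  rw [tor_eq_of_mem f.a1 x1 h1] at h2
  exact y1 (f.odd oy (comm_of_mem_tor h2) (io_comm.1 cy))

theorem comm_of_sq {Γ : Type*} [Group Γ] {η g : Γ} (o : Odd (orderOf η)) (h : Commute (η * η) g) :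
    Commute η g := by
  obtain ⟨k, hk⟩ := o
  have e : (η * η) ^ (k + 1) = η := by
    rw [← sq, ← pow_mul, show 2 * (k + 1) = (2 * k + 1) + 1 by ring, pow_succ, ← hk, pow_orderOf_eq_one,
      one_mul]
  rw [← e]; exact h.pow_left _

/-- an automorphism of odd order centralizing the inner automorphisms fixed by `β` or by `β a` -/
theorem Four.one {a w : PGL(2, F)} (f : Four a w) (h4 : 3 < Fintype.card F) (ha : a ∈ pslSub F)
    {η β : Gam F} (o : Odd (orderOf η)) (b2 : β * β = 1) (ba : Commute β (io a))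
    (bw : Commute β (io w)) (ca : Commute η (io a)) (cw : Commute η (io w))
    (h1 : ∀ g ∈ pslSub F, Commute β (io g) → Commute η (io g))
    (h2 : ∀ g ∈ pslSub F, Commute (β * io a) (io g) → Commute η (io g)) : η = 1 := by
  obtain ⟨W, rfl⟩ := exists_pmk w
  have f' := f.symm
  have key : ∀ g ∈ pslSub F, g ∈ tor W → Commute η (io g) := by
    intro g hg ht
    obtain ⟨g', e, hg'⟩ := exists_conj_io' β g
    have ht' := conj_mem_tor f'.a1 bw ht e
    have bi : β⁻¹ = β := inv_eq_of_mul_eq_one_right b2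
    have e' : β * io g' * β⁻¹ = io g := by
      rw [← e]
      calc β * (β * io g * β⁻¹) * β⁻¹ = (β * β) * io g * (β * β)⁻¹ := by group
        _ = io g := by rw [b2]; group
    have c := tor_comm f'.a1 ht ht'
    have c1 : Commute η (io (g * g')) := by
      refine h1 _ (mul_mem hg (hg'.2 hg)) (comm_of_conj_eq ?_).symm
      rw [map_mul, ← conj_mul, e, e', ← map_mul, ← map_mul, c]
    have ia : ∀ y ∈ tor W, β * io a * io y * (β * io a)⁻¹ = (β * io y * β⁻¹)⁻¹ := fun y hy => by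
      have := congrArg io (f'.inv hy)
      rw [map_mul, map_mul, map_inv, map_inv] at this
      calc β * io a * io y * (β * io a)⁻¹ = β * (io a * io y * (io a)⁻¹) * β⁻¹ := by group
        _ = _ := by rw [this]; group
    have c2 : Commute η (io (g * g'⁻¹)) := by
      refine h2 _ (mul_mem hg (inv_mem (hg'.2 hg))) (comm_of_conj_eq ?_).symm
      rw [map_mul, ← conj_mul, ia _ ht, ia _ (inv_mem ht'), map_inv io g', ← conj_inv (a := io g'), e, e', inv_inv,
        ← map_inv, ← map_mul, ← map_mul]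
      exact congrArg io (tor_comm f'.a1 (inv_mem ht') ht)
    have c3 : Commute η (io g * io g) := by
      have := c1.mul_right c2
      rwa [← map_mul, show g * g' * (g * g'⁻¹) = g * g by rw [mul_assoc, ← mul_assoc g', ← c]; group,
        map_mul] at this
    obtain ⟨h, eh, -⟩ := exists_conj_io' η g
    have hh := conj_mem_tor f'.a1 cw ht eh
    have c' := tor_comm f'.a1 hh ht
    have s : h * h = g * g := by
      rw [← io_inj, map_mul, map_mul, ← eh, conj_mul, c3.eq, mul_inv_cancel_right]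
    have s' : h * g⁻¹ * (h * g⁻¹) = 1 := by
      have : g⁻¹ * h = h * g⁻¹ := tor_comm f'.a1 (inv_mem ht) hh
      calc h * g⁻¹ * (h * g⁻¹) = h * (g⁻¹ * h) * g⁻¹ := by group
        _ = (h * h) * g⁻¹ * g⁻¹ := by rw [this]; group
        _ = 1 := by rw [s]; group
    by_cases r : h * g⁻¹ = 1
    · rw [mul_inv_eq_one] at r
      rw [r] at eh
      exact (comm_of_conj_eq eh).symm
    · have := eq_of_mem_tor f'.two f'.tr (mul_mem hh (inv_mem ht)) r s'
      rw [mul_inv_eq_iff_eq_mul] at this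
      refine comm_of_sq o (comm_of_conj_eq ?_).symm
      calc η * η * io g * (η * η)⁻¹ = η * (η * io g * η⁻¹) * η⁻¹ := by group
        _ = (η * io (pmk W) * η⁻¹) * (η * io g * η⁻¹) := by rw [conj_mul, ← map_mul, ← this, eh]
        _ = io g := by
          rw [eh, cw.eq, mul_inv_cancel_right, this, ← map_mul, ← mul_assoc, f'.a2, one_mul]
  refine eq_one_of_comm_cent f'.two f'.tr h4 o fun g hg c => ?_
  by_cases ht : g ∈ tor W
  · exact key g hg ht
  · have := (key _ (mul_mem hg ha) (mul_mem_tor c ht f.cm f'.nt)).mul_right ca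
    rwa [← map_mul, mul_assoc, f.a2, mul_one] at this

variable {G : Type*} [Group G] [Finite G] {ι : K →* G} {α : 𝐜[ι z1] →* MulAut PSL(2, F)}

/-- elements of `kS` in `C(z1)` -/
def el (ι : K →* G) (x : K) (hx : x ∈ kS) : 𝐜[ι z1] :=
  ⟨ι x, map_le_c (fun u hu => (cent_z1 u).2 hu) ⟨x, hx, rfl⟩⟩

theorem D2_S : ∀ x ∈ kD2, x ∈ kS := by decide +kernel

theorem two_ne (k : HK ι α) : (2 : F) ≠ 0 := by
  intro h
  have : ringChar F = 2 := by
    have h1 : ringChar F ∣ 2 := (ringChar.spec F 2).1 (by exact_mod_cast h)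
    rcases (Nat.dvd_prime Nat.prime_two).1 h1 with r | r
    · exact absurd r CharP.ringChar_ne_one
    · exact r
  have := FiniteField.even_card_of_char_two this
  obtain ⟨m, hm⟩ := k.odd
  omega

theorem inn' (k : HK ι α) {x : K} (hx : x ∈ kD2) : ∃ g ∈ pslSub F, α (el ι x (D2_S x hx)) = io g := by
  obtain ⟨s, hs⟩ := k.inn (el ι x (D2_S x hx)) x hx rfl
  exact ⟨_, pslTo_mem_pslSub s, by rw [hs, io_pslTo]⟩

theorem four (k : HK ι α) {x y : K} (hx : x ∈ kD2) (hy : y ∈ kD2) {a w : PGL(2, F)}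
    (ea : α (el ι x (D2_S x hx)) = io a) (ew : α (el ι y (D2_S y hy)) = io w) (x1 : x ≠ 1) (y1 : y ≠ 1)
    (ne : x ≠ y) (x2 : x * x = 1) (y2 : y * y = 1) (c : x * y = y * x) : Four a w := by
  have sq : ∀ {x : K} (hx : x ∈ kD2) {a : PGL(2, F)}, α (el ι x (D2_S x hx)) = io a → x * x = 1 →
      a * a = 1 := fun hx a e h => by
    rw [← io_eq_one, map_mul, ← e, ← map_mul, ← map_one α]
    exact congrArg α (Subtype.ext (by change ι _ * ι _ = 1; rw [← map_mul, h, map_one]))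
  refine ⟨two_ne k, fun r => x1 (k.ne _ x hx rfl (by rw [ea, r, map_one])),
    fun r => y1 (k.ne _ y hy rfl (by rw [ew, r, map_one])), fun r => ne ?_, sq hx ea x2, sq hy ew y2, ?_⟩
  · rw [← mul_inv_eq_one]
    refine k.ne (el ι x (D2_S x hx) * (el ι y (D2_S y hy))⁻¹) _ (mul_mem hx (inv_mem hy))
      (by rw [map_mul, map_inv]; rfl) ?_
    rw [map_mul, map_inv, ea, ew, r, mul_inv_cancel]
  · rw [← io_inj, map_mul, map_mul, ← ea, ← ew, ← map_mul, ← map_mul]
    exact congrArg α (Subtype.ext (by change ι _ * ι _ = ι _ * ι _; rw [← map_mul, c, map_mul]))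

theorem acomm {x y : 𝐜[ι z1]} (h : Commute (x : G) y) : Commute (α x) (α y) :=
  (show Commute x y from Subtype.ext h).map α

theorem norm_sub {Y H : Subgroup G} {h : H} (hh : (h : G) ∈ 𝐍[Y]) : h ∈ 𝐍[Y.subgroupOf H] :=
  mem_normalizer_of_cj_le (cj_le_iff_forall.2 fun _ hx => conj_mem_of_mem_normalizer (Q := Y) hh hx)

/-- (A) and (B) -/
theorem cent_inn (k : HK ι α) {v w t : K} {n : G} (hv : v ∈ kS) (v2 : v * v = 1) (hw : w ∈ kD2)
    (ht : t ∈ kD2) (w1 : w ≠ 1) (wz : z2 ≠ w) (w2 : w * w = 1) (e : t * w * t⁻¹ = w * z2)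
    (cz : z2 * v = v * z2) (cw : w * v = v * w) (ct : t * v = v * t) (n1 : Cj ι n z1 z1)
    (n2 : Cj ι n z2 (w * z2)) (n3 : Cj ι n v v) {y : 𝐜[ι z1]} (hy : (y : G) ∈ oc 𝐜[ι v])
    (g : PGL(2, F)) (hg : g ∈ pslSub F) (c : Commute (α (el ι v hv)) (io g)) : Commute (α y) (io g) := by
  have hz : z2 ∈ kD2 := by decide +kernel
  obtain ⟨a, -, ea⟩ := inn' k hz
  obtain ⟨b, -, eb⟩ := inn' k hw
  have f := four k hz hw ea eb (by decide +kernel) w1 wz (by decide +kernel) w2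
    ((cent_z2 w).2 (D2_S w hw)).symm
  set Y := (oc 𝐜[ι v]).subgroupOf 𝐜[ι z1] with hY
  have N : ∀ h : 𝐜[ι z1], (h : G) ∈ 𝐜[ι v] → α h ∈ 𝐍[Y.map α ⊓ (pslSub F).map io] := fun h hh =>
    le_normalizer_inf (L := zpowers (α h))
      (zpowers_le.2 (le_normalizer_map α ⟨h, norm_sub (le_norm_oc _ hh), rfl⟩))
      (by rw [normalizer_eq_top]; exact le_top) (mem_zpowers _)
  have M : ∀ x (hx : x ∈ kS), x * v = v * x → ((el ι x hx : 𝐜[ι z1]) : G) ∈ 𝐜[ι v] := fun x hx h =>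
    mem_centralizer_singleton_iff.2 (by change ι x * ι v = ι v * ι x; rw [← map_mul, h, map_mul])
  have oY : Odd (Nat.card Y) := by
    rw [hY, ← inf_subgroupOf_right, Nat.card_congr (subgroupOfEquivOfLe inf_le_right).toEquiv]
    exact odd_of_le inf_le_left (odd_oc _)
  have hD : Y.map α ⊓ (pslSub F).map io = ⊥ := by
    refine f.bot (inf_le_right.trans (map_le_range _ _))
      (odd_of_le inf_le_left (Odd.of_dvd_nat oY (card_map_dvd _ _))) (ea ▸ N _ (M _ _ cz))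
      (eb ▸ N _ (M _ _ cw)) (N ⟨n, cj_self.1 n1⟩ (cj_self.1 n3)) (N _ (M _ (D2_S t ht) ct)) ?_ ?_
    · rw [← ea, ← eb, ← map_inv, ← map_mul, ← map_mul, ← map_mul]
      exact congrArg α (Subtype.ext (Eq.trans n2 (map_mul ι _ _)))
    · rw [← ea, ← eb, ← map_inv, ← map_mul, ← map_mul, ← map_mul]
      exact congrArg α (Subtype.ext (Eq.trans (Cj.of' e : Cj ι _ _ _) (map_mul ι _ _)))
  obtain ⟨s, rfl⟩ := hg
  have es : io (pslTo F s) = MulAut.conj s := io_pslTo s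
  obtain ⟨x, cx, ex⟩ := k.lift (el ι v hv)
    (Subtype.ext (by change ι v * ι v = 1; rw [← map_mul, v2, map_one])) s (es ▸ c)
  rw [← commutatorElement_eq_one_iff_commute, ← mem_bot, ← hD]
  change ⁅α y, io (pslTo F s)⁆ ∈ _
  refine ⟨?_, ?_⟩
  · rw [es, ← ex, ← map_commutatorElement]
    refine ⟨_, ?_, rfl⟩
    have hx : x ∈ 𝐍[Y] := norm_sub (le_norm_oc _ (mem_centralizer_singleton_iff.2 (congrArg Subtype.val cx)))
    rw [commutatorElement_def, mul_assoc, mul_assoc, ← mul_assoc x]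
    exact mul_mem hy (conj_mem_of_mem_normalizer hx (inv_mem hy))
  · rw [commutatorElement_def]
    have hs : io (pslTo F s) ∈ (pslSub F).map io := ⟨_, pslTo_mem_pslSub s, rfl⟩
    exact Subgroup.mul_mem _ (map_io_normal.conj_mem _ hs _) (inv_mem hs)

/-- coprime action on a subgroup whose image centralizes the image of the operator group -/
theorem cop (k : HK ι α) (d : MS ι ⊤) {U : Subgroup K} (hU : U ≤ kS) {Y : Subgroup G} (hY : Y ≤ 𝐜[ι z1])
    (o : Odd (Nat.card Y)) (hn : U.map ι ≤ 𝐍[Y])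
    (h : ∀ y (hy : y ∈ Y) x (hx : x ∈ U), Commute (α ⟨y, hY hy⟩) (α (el ι x (hU hx))))
    (hc : Y ⊓ 𝐂[U.map ι] ≤ oc 𝐜[ι z1]) : Y ≤ oc 𝐜[ι z1] := by
  refine (CP.le_comm_sup (d.pg U) o hn).trans (sup_le (commutator_le.2 ?_) hc)
  rintro y hy _ ⟨x, hx, rfl⟩
  refine k.ker ⁅(⟨y, hY hy⟩ : 𝐜[ι z1]), el ι x (hU hx)⁆ ?_ ?_
  · rw [map_commutatorElement, commutatorElement_eq_one_iff_commute]; exact h y hy x hx
  · rw [← orderOf_coe]
    exact odd_orderOf o (CP.comm_le hn (commutator_mem_commutator hy ⟨x, hx, rfl⟩))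

end KS2

open KS2 Cfsg.Agent.Class.Dickson

variable {G : Type*} [Group G] [Finite G] {ι : K →* G} {F : Type} [Field F] [Fintype F]
  {α : 𝐜[ι z1] →* MulAut PSL(2, F)}

/-- an element of odd order centralizing `z1, z2, u2` and inverted by `u1` lies in `O(C(z1))` -/
theorem HK.b4 (k : HK ι α) (i : Function.Injective ι) {x : G} (o : Odd (orderOf x))
    (h1 : x ∈ 𝐜[ι z1]) (h2 : x ∈ 𝐜[ι z2]) (h3 : x ∈ 𝐜[ι u2]) (e : ι u1 * x * (ι u1)⁻¹ = x⁻¹) :
    x ∈ oc 𝐜[ι z1] := by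
  have hz : z2 ∈ kD2 := by decide +kernel
  have hw : u2 ∈ kD2 := by decide +kernel
  have hu : u1 ∈ kS := by decide +kernel
  obtain ⟨a, -, ea⟩ := inn' k hz
  obtain ⟨b, -, eb⟩ := inn' k hw
  have f := four k hz hw ea eb (by decide +kernel) (by decide +kernel) (by decide +kernel)
    (by decide +kernel) (by decide +kernel) (by decide +kernel)
  have o' : Odd (orderOf (⟨x, h1⟩ : 𝐜[ι z1])) := by rw [← orderOf_coe]; exact o
  have o2 : Odd (orderOf (α ⟨x, h1⟩)) := Odd.of_dvd_nat o' (orderOf_map_dvd _ _)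
  have hm : α ⟨x, h1⟩ ∈ (pslSub F).map io := by
    refine mem_of_odd_of_pow o2 (k := 1) ?_
    have := commutator_mem_io f.two (α ⟨x, h1⟩) (α (el ι u1 hu))
    rw [← map_commutatorElement] at this
    rw [← map_pow]
    convert this using 2
    refine Subtype.ext ?_
    change x ^ 2 ^ 1 = x * ι u1 * x⁻¹ * (ι u1)⁻¹
    rw [mul_assoc x, mul_assoc x, ← conj_inv, e, inv_inv, pow_one, sq]
  obtain ⟨s, -, es⟩ := hm
  refine k.ker ⟨x, h1⟩ ?_ o'
  rw [← es, orderOf_injective _ io_injective] at o2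
  rw [← es, io_eq_one]
  refine f.odd o2 (io_comm.1 ?_) (io_comm.1 ?_)
  · rw [es, ← ea]; exact acomm (mem_centralizer_singleton_iff.1 h2)
  · rw [es, ← eb]; exact acomm (mem_centralizer_singleton_iff.1 h3)

/-- balance for `u1` and `u1 z2` in `C(z1)` -/
theorem LF.b3 (d : LF ι) (k : HK ι α)
    (h1 : ∀ v ∈ [u1, u1 * z2], oc 𝐜[ι v] ⊓ 𝐂[kB.map ι] ≤ oc 𝐜[ι kz])
    (h2 : oc 𝐜[ι kz] ⊓ 𝐂[kS.map ι] ≤ oc 𝐜[ι (u1 * z2)] ⊓ oc 𝐜[ι (v1 * z2)]) :
    ∀ v ∈ [u1, u1 * z2], oc 𝐜[ι v] ⊓ 𝐜[ι z1] ≤ oc 𝐜[ι z1] := by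
  obtain ⟨m, -, a1, -, a2, a3, -⟩ := d.m1
  obtain ⟨n, -, b1, -, b2, b3, b4⟩ := d.m2
  have hz : z2 ∈ kD2 := by decide +kernel
  have hw : u2 ∈ kD2 := by decide +kernel
  have hu : u1 ∈ kS := by decide +kernel
  have hv : v1 ∈ kS := by decide +kernel
  have huz : u1 * z2 ∈ kS := by decide +kernel
  have hvz : v1 * z2 ∈ kS := by decide +kernel
  have PS : kP ≤ kS := (by decide +kernel : ∀ x ∈ kP, x ∈ kS)
  have B1 := fun y hy => cent_inn k (y := y) hu (by decide +kernel) (w := v2) (t := u2) (by decide +kernel) hw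
    (by decide +kernel) (by decide +kernel) (by decide +kernel) (by decide +kernel) (by decide +kernel)
    (by decide +kernel) (by decide +kernel) b1 b2 b4 hy
  have B2 := fun y hy => cent_inn k (y := y) huz (by decide +kernel) (w := u2) (t := v2) hw (by decide +kernel)
    (by decide +kernel) (by decide +kernel) (by decide +kernel) (by decide +kernel) (by decide +kernel)
    (by decide +kernel) (by decide +kernel) a1 a2 a3 hy
  have B3 := fun y hy => cent_inn k (y := y) hvz (by decide +kernel) (w := v2) (t := u2) (by decide +kernel) hw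
    (by decide +kernel) (by decide +kernel) (by decide +kernel) (by decide +kernel) (by decide +kernel)
    (by decide +kernel) (by decide +kernel) b1 b2 b3 hy
  have am : ∀ {x y z : K} (hx : x ∈ kS) (hy : y ∈ kS) (hz : z ∈ kS), x * y = z →
      α (el ι x hx) * α (el ι y hy) = α (el ι z hz) := fun hx hy hz e => by
    rw [← map_mul]
    exact congrArg α (Subtype.ext (by change ι _ * ι _ = ι _; rw [← map_mul, e]))
  have ac : ∀ {x y : K} (hx : x ∈ kS) (hy : y ∈ kS), x * y = y * x →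
      Commute (α (el ι x hx)) (α (el ι y hy)) := fun hx hy e =>
    acomm (by change ι _ * ι _ = ι _ * ι _; rw [← map_mul, e, map_mul])
  have hc : u1 * v1 * z2 ∈ kS := by decide +kernel
  have ec : α (el ι _ hc) = 1 := k.cen _ rfl
  have ev : α (el ι v1 hv) = α (el ι _ huz) := by
    rw [← am huz hc hv (by decide +kernel), ec, mul_one]
  have cy : ∀ {U : Subgroup K} (hU : U ≤ kS) {y : G} (hy : y ∈ 𝐜[ι z1]), y ∈ 𝐂[U.map ι] → ∀ x (hx : x ∈ U),
      Commute (α ⟨y, hy⟩) (α (el ι x (hU hx))) := fun hU y hy h x hx =>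
    acomm (mem_centralizer_iff.1 h _ ⟨x, hx, rfl⟩).symm
  have cz : ∀ {U : Subgroup K}, z1 ∈ U → 𝐂[U.map ι] ≤ 𝐜[ι z1] := fun h y hy =>
    mem_centralizer_singleton_iff.2 (mem_centralizer_iff.1 hy _ ⟨_, h, rfl⟩).symm
  -- step (D)
  have D : oc 𝐜[ι kz] ⊓ 𝐂[kS.map ι] ≤ oc 𝐜[ι z1] := by
    intro y hy
    have hH := cz (by decide +kernel) hy.2
    have o : Odd (orderOf (⟨y, hH⟩ : 𝐜[ι z1])) := by
      rw [← orderOf_coe]; exact odd_orderOf (odd_oc _) hy.1
    obtain ⟨a, ha, ea⟩ := inn' k hz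
    obtain ⟨b, -, eb⟩ := inn' k hw
    have f := four k hz hw ea eb (by decide +kernel) (by decide +kernel) (by decide +kernel)
      (by decide +kernel) (by decide +kernel) (by decide +kernel)
    refine k.ker ⟨y, hH⟩ (f.one k.big ha (Odd.of_dvd_nat o (orderOf_map_dvd _ _)) (β := α (el ι _ huz))
      ?_ (ea ▸ ac _ _ (by decide +kernel)) (eb ▸ ac _ _ (by decide +kernel))
      (ea ▸ cy le_rfl hH hy.2 _ (D2_S _ hz)) (eb ▸ cy le_rfl hH hy.2 _ (D2_S _ hw)) (B2 _ (h2 hy).1) fun g hg c => ?_) o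
    · rw [am huz huz (one_mem _) (by decide +kernel), ← map_one α]
      exact congrArg α (Subtype.ext (map_one ι))
    · refine B3 _ (h2 hy).2 g hg ?_
      rwa [← am hv (D2_S _ hz) hvz rfl, ev, ea]
  -- the second half of step (C)
  have W : oc 𝐜[ι kz] ⊓ 𝐂[kP.map ι] ≤ oc 𝐜[ι z1] := by
    refine cop k d.toMS le_rfl (inf_le_right.trans (cz (by decide +kernel)))
      (odd_of_le inf_le_left (odd_oc _)) (le_normalizer_inf ?_ (le_normalizer_centralizer ?_)) ?_
      ((inf_le_inf_right _ inf_le_left).trans D)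
    · exact (map_le_c fun u _ => z_comm u).trans (le_norm_oc _)
    · rintro _ ⟨x, hx, rfl⟩
      exact mem_norm_map ((by decide +kernel : ∀ x ∈ kS, ∀ u ∈ kP, x * u * x⁻¹ ∈ kP) x hx)
    · intro y hy x hx
      rcases (by decide +kernel : ∀ x ∈ kS, x ∈ kP ∨ x * v1 ∈ kP) x hx with r | r
      · exact cy PS _ hy.2 x r
      · rw [← am (PS r) hv hx (by rw [mul_assoc, show v1 * v1 = 1 by decide +kernel, mul_one]), ev]
        exact (cy PS _ hy.2 _ r).mul_right (cy PS _ hy.2 _ (by decide +kernel))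
  intro v hv'
  have key : ∀ (hS : v ∈ kS), (∀ x ∈ kP, x * v = v * x) →
      (∀ x ∈ kP, ∃ e ∈ kD2, ∃ c, (c = 1 ∨ c = v ∨ c = z1 ∨ c = v * z1) ∧ x = c * e) →
      (∀ y : 𝐜[ι z1], (y : G) ∈ oc 𝐜[ι v] → ∀ g ∈ pslSub F, Commute (α (el ι v hS)) (io g) →
        Commute (α y) (io g)) → oc 𝐜[ι v] ⊓ 𝐜[ι z1] ≤ oc 𝐜[ι z1] := by
    intro hS c dec B
    refine cop k d.toMS PS inf_le_right (odd_of_le inf_le_left (odd_oc _))
      (le_normalizer_inf ((map_le_c c).trans (le_norm_oc _))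
        ((map_le_c fun u hu => (cent_z1 u).2 (PS hu)).trans le_normalizer)) ?_ ?_
    · intro y hy x hx
      obtain ⟨e, he, c', hc', rfl⟩ := dec x hx
      have z : z1 ∈ kS := by decide +kernel
      have hcS : c' ∈ kS := by
        rcases hc' with rfl | rfl | rfl | rfl
        exacts [one_mem _, hS, z, mul_mem hS z]
      rw [← am hcS (D2_S e he) _ rfl]
      refine Commute.mul_right (acomm ?_) ?_
      · have r1 : Commute y (ι v) := mem_centralizer_singleton_iff.1 (oc_le _ hy.1)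
        have r2 : Commute y (ι z1) := mem_centralizer_singleton_iff.1 hy.2
        change Commute y (ι c')
        rcases hc' with rfl | rfl | rfl | rfl
        exacts [by rw [map_one]; exact Commute.one_right _, r1, r2, by rw [map_mul]; exact r1.mul_right r2]
      · obtain ⟨g, hg, eg⟩ := inn' k he
        rw [eg]
        exact B _ hy.1 g hg (eg ▸ ac _ _ (c e ((by decide +kernel : ∀ x ∈ kD2, x ∈ kP) e he)).symm)
    · refine le_trans (le_inf ?_ inf_le_right) W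
      exact (inf_le_inf inf_le_left (centralizer_anti (map_mono
        (by decide +kernel : ∀ x ∈ kB, x ∈ kP)))).trans (h1 v hv')
  simp only [List.mem_cons, List.not_mem_nil, or_false] at hv'
  rcases hv' with rfl | rfl
  · exact key hu (by decide +kernel) (by decide +kernel) B1
  · exact key huz (by decide +kernel) (by decide +kernel) B2

end Cfsg.Agent.L4W
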