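import Mathlib
import Cfsg.Agent.SigS.Main
import Cfsg.Agent.K.SigDelta
import Cfsg.Agent.S0217
import Cfsg.Agent.Lyons.Tools
import Cfsg.Agent.BF.Base
import Cfsg.Agent.Gold.CharPAux1

/-! The closure of the 2-balanced functor on an elementary abelian group of order 16. -/

set_option autoImplicit false
set_option linter.unusedSectionVars false

namespace Cfsg.Agent.L4W

open Subgroup Cfsg Cfsg.Agent.PLocal Cfsg.Agent.PLocal.Amb Cfsg.Agent.Gold Cfsg.Agent.Lyons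

variable {G : Type*} [Group G] [Finite G] {A E : Subgroup G}

/-- the subgroup generated by the `Δ(V)`, `V ≤ E` of rank at least 2 -/
def WW (E : Subgroup G) : Subgroup G :=
  ⨆ B : {B : Subgroup G // B ≤ E ∧ IsElementaryAbelian 2 B ∧ 2 ^ 2 ≤ Nat.card ↥B},
    signalizerDelta 2 (B : Subgroup G)

theorem bal_of (hA : IsElementaryAbelian 2 A)
    (h : ∀ x, (∀ b ∈ A, ∀ b' ∈ A, x ∉ 𝐜[b] → x ∉ 𝐜[b'] → x ∈ 𝐜[b * b']) → ∀ v ∈ A, ∀ w ∈ A, v ≠ 1 → w ≠ 1 →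
      v ≠ w → x ∈ oc 𝐜[v] → x ∈ oc 𝐜[w] → ∀ a ∈ A, a ≠ 1 → x ∈ 𝐜[a] → x ∈ oc 𝐜[a]) :
    IsKBalancedWrt 2 2 A := fun B hB hE h4 a ha a1 => by
  have h0 : B ≠ ⊥ := Sig.ne_bot_of_pow_le (k := 1) h4
  obtain ⟨v, hv, v1⟩ := (bot_or_exists_ne_one _).resolve_left h0
  obtain ⟨w, hw, hw'⟩ : ∃ w ∈ B, w ∉ zpowers v := by
    by_contra! r
    have := card_le_of_le (show B ≤ zpowers v from r)
    rw [Nat.card_zpowers, orderOf_eq_prime (hE.2 v hv) v1] at this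
    omega
  refine Sig.le_of_hyp_le hA (fun r => a1 (mem_bot.1 (r ▸ ha))) (le_normalizer_inf
    ((Sig.ea_le_cent hA hB).trans (K.cent_le_norm_delta _)) (Sig.ea_norm_cent1 hA ha))
    (fun r => K.not_dvd_delta h0 (r.trans (card_dvd_of_le inf_le_left))) fun H hH x hx => ?_
  have k : ∀ b ∈ H, x ∈ 𝐜[b] := fun b hb => mem_centralizer_singleton_iff.2 (hx.2 b hb).symm
  exact h x (fun b hb b' hb' r r' => k _ ((mul_mem_iff_of_index_two (H := H.subgroupOf A) hH.2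
    (a := ⟨b, hb⟩) (b := ⟨b', hb'⟩)).2 (iff_of_false (mt (k b) r) (mt (k b') r')))) v (hB hv) w (hB hw) v1
    (fun r => hw' (r ▸ one_mem _)) (fun r => hw' (r ▸ mem_zpowers v)) (signalizerDelta_le hv v1 hx.1.1)
    (signalizerDelta_le hw (fun r => hw' (r ▸ one_mem _)) hx.1.1) a ha a1 hx.1.2

theorem WW_eq (hA : IsElementaryAbelian 2 A) (hbal : IsKBalancedWrt 2 2 A) (hE : E ≤ A)
    (h1 : 2 ^ 3 ≤ Nat.card E) : signalizerClosure A (kBalancedTheta 2 2 A) = WW E := by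
  have h0 : ∀ B : Subgroup G, 2 ^ 2 ≤ Nat.card B → B ≠ ⊥ := fun B h => Sig.ne_bot_of_pow_le (k := 1) h
  have hE' := isElementaryAbelian_of_le hA hE
  refine le_antisymm (iSup_le fun a => iSup_le fun B => inf_le_left.trans
    (Sig.le_of_hyp_le hE' (Sig.ne_bot_of_pow_le h1) ((hE.trans
      (Sig.ea_le_cent hA B.2.1)).trans (K.cent_le_norm_delta _))
      (K.not_dvd_delta (h0 _ B.2.2.2)) fun H hH => ?_)) (iSup_le fun B => ?_)
  · exact (K.IsKBalancedWrt.delta_inf hbal hA B.2.1 B.2.2.2 (hH.1.trans hE)).trans (le_iSup_of_le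
      ⟨H, hH.1, isElementaryAbelian_of_le hE' hH.1, hH.pow_le h1⟩ le_rfl)
  · obtain ⟨b, hb, h2⟩ := (bot_or_exists_ne_one _).resolve_left (h0 _ B.2.2.2)
    exact le_iSup_of_le ⟨b, hE (B.2.1 hb), h2⟩ (le_trans (le_inf le_rfl
      ((signalizerDelta_le hb h2).trans (centralizerPPrimeCore_le b)))
      (K.le_theta hA (B.2.1.trans hE) B.2.2.2 b))

theorem WW_odd (hA : IsElementaryAbelian 2 A) (hbal : IsKBalancedWrt 2 2 A) (h : 2 ^ 4 ≤ Nat.card A) :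
    Odd (Nat.card (WW A)) := by
  have s := SigS.isSF_sup (p := 2) (k := 2) (A := A) (fun a _ _ => CP.solv_odd (odd_oc 𝐜[a])) (by norm_num)
    hA h (.inl rfl) fun B h1 h2 B' h3 => le_sup_of_le_left (K.IsKBalancedWrt.delta_inf hbal hA h1 h2 h3)
  simp only [sup_bot_eq] at s
  have h3 : 2 ^ 3 ≤ Nat.card A := le_trans (by norm_num) h
  rw [← WW_eq hA hbal le_rfl h3]
  exact CP.odd_of_nd (S0217.result A (fun a ha b hb => Sig.ea_le_cent hA le_rfl hb a ha) hA.2 h3 _ s.1 s.2.1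
    s.2.2.1 (fun a ha a1 => CP.solv_odd (CP.odd_of_nd (s.2.1 a ha a1))) s.2.2.2).1

theorem norm_WW (E : Subgroup G) : 𝐍[E] ≤ 𝐍[WW E] := fun g hg => by
  refine mem_normalizer_of_cj_le (cj_le_iff.2 (iSup_le fun B => cj_le_iff.1 (le_trans ?_
    (le_iSup_of_le ⟨cj(g, B.1), cj_le_of_mem_normalizer B.2.1 hg, ⟨by have := B.2.2.1.1; infer_instance, ?_⟩,
      (card_cj g B.1).symm ▸ B.2.2.2⟩ le_rfl))))
  · refine le_signalizerDelta ?_
    rintro _ ⟨b, hb, rfl⟩ r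
    refine (cj_mono g (signalizerDelta_le hb fun e => r (by simp [e]))).trans ?_
    exact ((oc_cj g 𝐜[b]).symm.trans (congrArg oc (BF.cent_cj g b).symm)).le
  · rintro _ ⟨b, hb, rfl⟩
    rw [← map_pow, B.2.2.1.2 b hb, map_one]

theorem le_WW {B : Subgroup G} (h1 : B ≤ E) (h2 : IsElementaryAbelian 2 B) (h3 : 2 ^ 2 ≤ Nat.card B) :
    signalizerDelta 2 B ≤ WW E := le_iSup_of_le ⟨B, h1, h2, h3⟩ le_rfl

end Cfsg.Agent.L4W
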