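import Mathlib
import Cfsg.Agent.L4W.KO
import Cfsg.Agent.SylT.L5E
import Cfsg.Agent.P4T.Tower

/-! Generation of the centralizers of involutions. -/

set_option autoImplicit false
set_option linter.unusedSectionVars false

namespace Cfsg.Agent.L4W

open Subgroup Cfsg Cfsg.Agent.PLocal.Amb Cfsg.Agent.Gold Cfsg.Agent.BF Cfsg.Agent.W42 Cfsg.Agent.LyS
  Cfsg.Agent.SylT Cfsg.Agent.Lyons Cfsg.Agent.FW
open scoped MatrixGroups commutatorElement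

variable {G : Type*} [Group G] [Finite G] {ι : K →* G} {M : Subgroup G}

/-- `Y = C(z1) ∩ C(z2)` has the Sylow subgroup `kS`. If `g ∈ Y` conjugates `u1` to `y ∈ kS`, then the types
of `y, y z1, y z2, y kz` give `y ∈ {u1, u1 z1, v1, v1 z1}`, and `y ∈ kB` (`W42.ctlB`-like: push `kB ^ g`,
which centralizes `y`, and use `W42.wc`; or `extr1`). So `P4T.tower_amb` with `W = ⟨z1⟩`, `t = u1` gives
`Y = O(Y) N_Y(⟨z1, u1⟩)`. -/
theorem LF.y_le (d : LF ι) (h1 : oc (𝐜[ι z1] ⊓ 𝐜[ι z2]) ≤ M)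
    (h2 : ∀ g, Cj ι g z1 z1 → Cj ι g z2 z2 → Cj ι g u1 u1 ∨ Cj ι g u1 (u1 * z1) → g ∈ M) :
    𝐜[ι z1] ⊓ 𝐜[ι z2] ≤ M := by
  have hS : IsSyl 2 (kS.map ι) (𝐜[ι z1] ⊓ 𝐜[ι z2]) := (sylS d.toMS).mono
    (le_inf (sylS d.toMS).le (map_le_c fun u hu => (cent_z2 u).2 hu)) inf_le_left
  have key : ∀ g ∈ 𝐜[ι z1] ⊓ 𝐜[ι z2], g * ι u1 * g⁻¹ ∈ kS.map ι → Cj ι g u1 u1 ∨ Cj ι g u1 (u1 * z1) := by
    intro g hg e
    obtain ⟨y, hy, e⟩ := exists_cj e
    have e1 := cj_self.2 hg.1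
    have e2 := cj_self.2 hg.2
    rcases (by decide +kernel : ∀ y ∈ kS, s2 y → s2 (y * z1) → s4 (y * z2) → s4 (y * z1 * z2) →
      y = u1 ∨ y = u1 * z1 ∨ y ∈ kE 0 0) y hy ((d.t2 e).1 (by decide +kernel))
      ((d.t2 (e.mul e1)).1 (by decide +kernel)) ((d.t4 (e.mul e2)).1 (by decide +kernel))
      ((d.t4 ((e.mul e1).mul e2)).1 (by decide +kernel)) with r | r | r
    · exact .inl (r ▸ e)
    · exact .inr (r ▸ e)
    have hE : ∀ i, (kE i i).map ι ≤ 𝐜[ι z1] ⊓ 𝐜[ι z2] := fun i => (map_mono fun x => E_le_S i i x).trans hS.le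
    obtain ⟨T, hT, k1⟩ := exists_isSyl_ge (L := 𝐜[ι z1] ⊓ 𝐜[ι z2] ⊓ 𝐜[ι y]) (d.toMS.pg (kE 0 0))
      (le_inf (hE 0) (map_le_c fun u hu => E_comm 0 0 u hu y r))
    obtain ⟨c, hc, k2⟩ := hT.exists_cj_le (isPGroup_cj g (d.toMS.pg kB)) (le_inf (cj_le_of_mem (hE 1) hg)
      (e.cent ▸ cj_mono g (B_le_c ι (by decide +kernel))))
    obtain ⟨k, hk, k3⟩ := hS.exists_cj_le hT.pgrp (hT.le.trans inf_le_left)
    have k4 := wc d.toMS ((cj_mono k k1).trans (k3.trans (map_le_range ι _)))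
    have k5 := wc d.toMS (g := k * (c * g)) (i := 1) (by
      rw [cj_mul, cj_mul]; exact (cj_mono k k2).trans (k3.trans (map_le_range ι _)))
    obtain ⟨w, hw, e3⟩ := exists_cj_of_norm k4 r
    have e4 := (e.trans (cj_self.2 hc.2)).trans e3
    have hm := mul_mem hk (mul_mem hc.1 hg)
    have f1 := cj_self.2 hm.1
    have f2 := cj_self.2 hm.2
    rcases (by decide +kernel : ∀ w ∈ kE 0 0, w ∈ kB → w = 1 ∨ w = z1 ∨ w = z2 ∨ w = z1 * z2) w hw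
      (e4.mem_of_norm d.inj k5 (by decide +kernel)) with r | r | r | r
    exacts [absurd ((e4.eq_iff d.inj Cj.one).2 r) (by decide +kernel),
      absurd ((e4.eq_iff d.inj f1).2 r) (by decide +kernel), absurd ((e4.eq_iff d.inj f2).2 r) (by decide +kernel),
      absurd ((e4.eq_iff d.inj (f1.mul f2)).2 r) (by decide +kernel)]
  intro g hg
  obtain ⟨o, ho, e⟩ := (P4T.tower_amb hS (W := zpowers (ι z1)) (t := ι u1)
    (zpowers_le.2 (mem_map_of_mem ι z1_mem)) inferInstance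
    (by
      rintro _ ⟨n, rfl⟩ g hg -
      rw [← conj_zpow, show g * ι z1 * g⁻¹ = ι z1 from cj_self.2 hg.1]
      exact ⟨n, rfl⟩) (mem_map_of_mem ι (by decide +kernel)) fun g hg e => by
      rcases key g hg e with r | r <;> rw [r]
      · simp [one_mem]
      · rw [← map_inv, ← map_mul, show u1 * z1 * u1⁻¹ = z1 by decide +kernel]; exact mem_zpowers _).1 g hg
  have hog := mul_mem (oc_le _ ho) hg
  exact (mul_mem_cancel_left (h1 ho)).1 (h2 _ (cj_self.2 hog.1) (cj_self.2 hog.2) (key _ hog e))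

/-- `R = O²(H)`, `H = C(z1) = R kS`, `kS ≤ M`. `M ∩ R` contains the Sylow subgroup `D₂` of `R` (`LF.res`),
`N_R(D₂) ≤ C(z2)`, and the centralizers in `R` of all involutions of `D₂` (they are fused to `z2` in
`M ∩ H`). If `M ∩ R ≠ R` it is strongly embedded in `R` (`Inv.isStronglyEmbedded_iff`, see `FW/Fin`), and
`SylT.se_comm` says that `u2` and `v2` commute. -/
theorem LF.hm (d : LF ι) (hY : 𝐜[ι z1] ⊓ 𝐜[ι z2] ≤ M)
    (h1 : ∃ m ∈ M, Cj ι m z1 z1 ∧ Cj ι m z2 (u2 * z2))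
    (h2 : ∃ m ∈ M, Cj ι m z1 z1 ∧ Cj ι m z2 (v2 * z2)) : 𝐜[ι z1] ≤ M := by
  have hS : kS.map ι ≤ M := (le_inf (sylS d.toMS).le (map_le_c fun u hu => (cent_z2 u).2 hu)).trans hY
  have hD : kD2.map ι ≤ M := (map_mono (by decide +kernel : ∀ x, x ∈ kD2 → x ∈ kS)).trans hS
  have hs := d.res.mono (le_inf d.res.le hD) inf_le_left
  have fu : ∀ t ∈ 𝐎[2, 𝐜[ι z1]] ⊓ M, orderOf t = 2 → ∃ x ∈ 𝐜[ι z1] ⊓ M, x * t * x⁻¹ = ι z2 := by
    intro t ht t2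
    obtain ⟨c, hc, k1⟩ := hs.exists_cj_le (R := zpowers t) (IsPGroup.of_card (n := 1) (by
      rw [Nat.card_zpowers, t2]; rfl)) (zpowers_le.2 ht)
    obtain ⟨y, hy, e⟩ := k1 (conj_mem_cj c (mem_zpowers t))
    have y2 : orderOf (ι y) = 2 := by rw [e, orderOf_conj', t2]
    obtain ⟨k, hk, r⟩ := (by decide +kernel : ∀ y ∈ kD2, y * y = 1 → y ≠ 1 → ∃ k ∈ kS,
      k * y * k⁻¹ = z2 ∨ k * y * k⁻¹ = u2 * z2 ∨ k * y * k⁻¹ = v2 * z2) y hy
      (d.inj (by rw [map_mul, map_one, Inv.mul_self_of_orderOf_two y2])) fun r => by simp [r] at y2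
    have hk' : ι k ∈ 𝐜[ι z1] ⊓ M := ⟨(sylS d.toMS).le (mem_map_of_mem ι hk), hS (mem_map_of_mem ι hk)⟩
    obtain ⟨n, hn, e'⟩ : Fm ι (𝐜[ι z1] ⊓ M) y z2 := by
      obtain ⟨m, a1, a2, a3⟩ := h1
      obtain ⟨n, b1, b2, b3⟩ := h2
      rcases r with r | r | r
      exacts [⟨_, hk', Cj.of' r⟩, Fm.trans ⟨_, hk', Cj.of' r⟩ (Fm.symm ⟨m, ⟨cj_self.1 a2, a1⟩, a3⟩),
        Fm.trans ⟨_, hk', Cj.of' r⟩ (Fm.symm ⟨n, ⟨cj_self.1 b2, b1⟩, b3⟩)]
    exact ⟨n * c, mul_mem hn ⟨pRes_le _ _ hc.1, hc.2⟩, by rw [← e', e]; group⟩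
  rw [← (sylS d.toMS).pRes_sup]
  refine sup_le (by_contra fun hM => ?_) hS
  have mem : ∀ x ∈ kD2, ι x ∈ 𝐎[2, 𝐜[ι z1]] := fun x hx => d.res.le (mem_map_of_mem ι hx)
  have o2 : ∀ x hx, x ≠ 1 → x * x = 1 → orderOf (⟨ι x, mem x hx⟩ : 𝐎[2, 𝐜[ι z1]]) = 2 := fun x hx a b => by
    rw [← orderOf_coe]; exact order_two d.inj a b
  have := SylT.se_comm (M := M.subgroupOf 𝐎[2, 𝐜[ι z1]]) (R := (kD2.map ι).subgroupOf _)
    (s := ⟨ι u2, mem _ (by decide +kernel)⟩) (t := ⟨ι v2, mem _ (by decide +kernel)⟩)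
    (Inv.isStronglyEmbedded_iff.2 ⟨fun e => hM (subgroupOf_eq_top.1 e),
      Inv.even_card_of_involution (t := ⟨ι u2, mem _ (by decide +kernel)⟩)
        (hD (mem_map_of_mem ι (by decide +kernel))) (o2 _ (by decide +kernel) (by decide +kernel) (by decide +kernel)),
      fun t ht t2 g hg => ?_⟩)
    ((d.toMS.pg kD2).comap_subtype) (mem_map_of_mem ι (by decide +kernel)) (mem_map_of_mem ι (by decide +kernel))
    (o2 _ (by decide +kernel) (by decide +kernel) (by decide +kernel)) (o2 _ (by decide +kernel) (by decide +kernel) (by decide +kernel))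
  · have e : ι u2 * ι v2 = ι v2 * ι u2 := congrArg Subtype.val this
    rw [← map_mul, ← map_mul] at e
    exact absurd (d.inj e) (by decide +kernel)
  · obtain ⟨x, hx, e⟩ := fu t ⟨t.2, ht⟩ (by rw [orderOf_coe, t2])
    obtain ⟨y, hy, e'⟩ := fu _ ⟨(g * t * g⁻¹).2, hg⟩ (by rw [orderOf_coe, orderOf_conj', t2])
    rw [mem_inf] at hx hy
    have : y * g * x⁻¹ ∈ M := hY (mem_inf.2 ⟨mul_mem (mul_mem hy.1 (pRes_le _ _ g.2)) (inv_mem hx.1), cj_self.1 (by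
      rw [Cj]; nth_rw 1 [← e]; rw [← e']; simp [mul_assoc])⟩)
    exact (mul_mem_cancel_left hy.2).1 ((mul_mem_cancel_right (inv_mem hx.2)).1 this)

/-- `M` contains `C(kn)`, so the swaps `su` (it fixes `u1, v2`) and `sv` (it fixes `v1 u2`, conjugate to `kn`
under `kt`). By `fm_s4`, `fm_s2`, `ct` all involutions of each type are fused in `M`; `hm` (with `Sw.t`)
gives `C(z1) ≤ M`. So `M` contains the centralizers of all its involutions, and the two-class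
argument of `LyS.AF.eq_top` (last 18 lines of its proof) gives `M = ⊤`. -/
theorem LF.top (d : LF ι) (h : 𝐜[ι kz] ≤ M) (hn : Fm ι M kn kz) : M = ⊤ := by
  have hr : ι.range ≤ M := (range_le_c' ι z_comm).trans h
  have c4 : ∀ {x}, Fm ι M x kz → 𝐜[ι x] ≤ M := fun ⟨m, hm, e⟩ => by
    rw [← e.symm.cent]; exact cj_le_of_mem h (inv_mem hm)
  obtain ⟨m, s⟩ := d.su
  obtain ⟨m', s'⟩ := d.sv
  obtain ⟨c, a1, a2⟩ := d.ct
  have hm : m ∈ M := c4 hn (cj_self.1 (s.cu.mul s.cv))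
  have hm' : m' ∈ M := c4 ((fm_of hr (k := kt) (by decide +kernel)).trans hn) (cj_self.1 (cj_sg.1 (s'.cu.mul s'.cv)))
  have hY : 𝐜[ι z1] ≤ M := by
    obtain ⟨n, -, b1, -, b2, -, -, b3⟩ := s.t
    obtain ⟨n', -, b1', -, b2', -, -, b3'⟩ := s'.t
    exact d.hm (fun g hg => h (cj_self.1 (((cj_self.2 hg.1).mul (cj_self.2 hg.2)).cg (by decide +kernel)
      (by decide +kernel)))) ⟨n, b3 M (hr ⟨_, rfl⟩) hm, b1, b2⟩ ⟨n', b3' M (hr ⟨_, rfl⟩) hm',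
      (cj_sg.1 b1').cg (by decide +kernel) (by decide +kernel),
      (cj_sg.1 b2').cg (by decide +kernel) (by decide +kernel)⟩
  have c2 : ∀ x, s2 x → 𝐜[ι x] ≤ M := fun x hx => by
    obtain ⟨m, hm, e⟩ := (fm_s2 hr s hm s' hm' hx).elim id fun r => r.trans ⟨c, h (cj_self.1 a1), a2⟩
    rw [← e.symm.cent]; exact cj_le_of_mem hY (inv_mem hm)
  have m := d.toMS.mono hr le_top
  refine eq_top_iff.2 fun g _ => ?_
  have a2 : ι z1 * ι z1 = 1 := by rw [← map_mul, show z1 * z1 = 1 by decide +kernel, map_one]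
  have b2 : g * ι kz * g⁻¹ * (g * ι kz * g⁻¹) = 1 := by rw [conj_mul, ← map_mul, z_sq]; simp
  obtain ⟨c, -, c2', h1, h2⟩ := Inv.exists_central_involution_of_even a2 b2 (Nat.not_odd_iff_even.1 fun r => by
    obtain ⟨n, e⟩ := isConj_iff.1 (Inv.isConj_of_odd_orderOf_mul a2 b2 r)
    exact az d.toMS (Fu.symm ⟨n * g, Eq.trans (by group) e⟩))
  obtain ⟨n, hn, x, e⟩ := m.cj_invol (hY (mem_centralizer_singleton_iff.2 h1.eq)) (Inv.mul_self_of_orderOf_two c2')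
  have hx : orderOf (ι x) = 2 := by rw [← e, orderOf_conj', c2']
  have h3 : 𝐜[ι x] ≤ M := (s24 x (d.inj (by rw [map_mul, map_one, Inv.mul_self_of_orderOf_two hx]))
    fun r => by simp [r] at hx).elim (c2 x) fun r => c4 (fm_s4 hr s hm s' hm' r)
  rw [← e, cent_cj, cj_le_iff, cj_of_mem (inv_mem hn)] at h3
  obtain ⟨n', hn', y, e'⟩ := m.cj_invol (h3 (mem_centralizer_singleton_iff.2 h2.eq.symm)) b2
  have e1 : Cj ι (n' * g) kz y := Eq.trans (by group) e'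
  obtain ⟨l, hl, e2⟩ := fm_s4 hr s hm s' hm' ((d.t4 e1).1 (by decide +kernel))
  exact (mul_mem_cancel_left hn').1 ((mul_mem_cancel_left hl).1 (h (cj_self.1 (e1.trans e2))))

end Cfsg.Agent.L4W
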