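import Mathlib
import Cfsg.Prelude.Def_Classical

/-! The groups `L₄(q)`, `q ≡ 3 (4)`, and `U₄(q)`, `q ≡ 1 (4)`. -/

set_option autoImplicit false

namespace Cfsg.Agent.L4W

/-- `L₄(q)` with `q ≡ 3 (4)` or `U₄(q)` with `q ≡ 1 (4)` -/
def IsL4e (G : Type*) [Group G] : Prop :=
  (∃ (F : Type) (_ : Field F) (_ : Fintype F) (q : ℕ), Fintype.card F = q ∧ q % 4 = 3 ∧
    Nonempty (G ≃* Matrix.ProjectiveSpecialLinearGroup (Fin 4) F)) ∨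
  (∃ (F : Type) (_ : Field F) (_ : Fintype F) (q : ℕ), Fintype.card F = q ^ 2 ∧ q % 4 = 1 ∧
    Nonempty (G ≃* Cfsg.PSU 4 F q))

end Cfsg.Agent.L4W
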