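import Mathlib
import Cfsg.Agent.CT.URecog
import Cfsg.Agent.CT.SLn
import Cfsg.Agent.Mult.SporGen
import Cfsg.Agent.Mult.SL2
import Cfsg.Agent.Class.SL2Cover
import Cfsg.Agent.Class.U.SU2

/-! Block pairs in images of `SL₃(q)` and `SU₃(q)` from commuting involutions. -/

set_option autoImplicit false
set_option linter.unusedSectionVars false

namespace Cfsg.Agent.L4W

open Matrix Cfsg Cfsg.Agent.KSG Cfsg.Agent.RootSub
open scoped MatrixGroups

variable {G : Type*} [Group G]

section Lin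

open Cfsg.Agent.CT.L

variable {F : Type*} [Field F] [Finite F]

theorem neg_one_cent (φ : SL(2, F) →* G) : φ (-1) ∈ Subgroup.centralizer (φ.range : Set G) := by
  rintro _ ⟨y, rfl⟩
  rw [← map_mul, ← map_mul]; simp

theorem edge_of_invol (h2 : (2 : F) ≠ 0) {θ : SL(3, F) →* G} (hθ : θ.ker ≤ Subgroup.center _)
    {φ φ' : SL(2, F) →* G} (i1 : Function.Injective φ) (i2 : Function.Injective φ')
    (r1 : φ.range ≤ θ.range) (r2 : φ'.range ≤ θ.range) (ne : φ (-1) ≠ φ' (-1))
    (hc : Commute (φ (-1)) (φ' (-1))) :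
    ∃ θ' : SL(3, F) →* G, θ'.ker ≤ Subgroup.center _ ∧ θ'.range = θ.range ∧
      (θ'.comp iL).range = φ.range ∧ (θ'.comp iR).range = φ'.range ∧
      Inv (φ' (-1)) (θ'.comp iL) ∧ Inv (φ (-1)) (θ'.comp iR) := by
  have lift : ∀ z ∈ θ.range, z * z = 1 → ∃ t, θ t = z ∧ t * t = 1 := by
    rintro _ ⟨t, rfl⟩ h
    refine ⟨t ^ 3, by rw [map_pow, pow_three, h, mul_one], ?_⟩
    rw [← (Commute.refl t).mul_pow, cube_of_center (hθ (by simpa using h))]
  have n1 : ∀ {φ : SL(2, F) →* G}, Function.Injective φ → φ (-1) ≠ 1 := fun i e =>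
    Class.Dickson.neg_one_ne_one_SL h2 (i (e.trans (map_one _).symm))
  obtain ⟨s, es, hs⟩ := lift (φ (-1)) (r1 ⟨_, rfl⟩) (by rw [← map_mul]; simp)
  obtain ⟨t, et, ht⟩ := lift (φ' (-1)) (r2 ⟨_, rfl⟩) (by rw [← map_mul]; simp)
  obtain ⟨P, hP, hP'⟩ := exists_diag_pair h2 hs ht (by rintro rfl; exact n1 i1 (by simp [← es]))
    (by rintro rfl; exact n1 i2 (by simp [← et])) (by rintro rfl; exact ne (es.symm.trans et))
    (commute_of_map hθ ht (by rw [es, et, hc.eq]))
  let θ' := θ.comp (MulAut.conj P).toMonoidHom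
  have e1 : ∀ s, θ' (P⁻¹ * s * P) = θ s := fun s => by simp [θ', mul_assoc]
  have hθ' : θ'.ker ≤ Subgroup.center SL(3, F) := fun x hx => by
    have : P * (P * x * P⁻¹) = P * x * P⁻¹ * P := Subgroup.mem_center_iff.1 (hθ hx) P
    rw [inv_mul_cancel_right, mul_right_inj] at this
    exact this ▸ hθ hx
  have hr' : θ'.range = θ.range := by
    rw [MonoidHom.range_comp, MonoidHom.range_eq_top.2 (MulAut.conj P).surjective,
      ← MonoidHom.range_eq_map]
  have sq : ∀ {s : SL(3, F)}, s * s = 1 → P⁻¹ * s * P * (P⁻¹ * s * P) = 1 := fun h => by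
    rw [← inv_inv P, inv_inv P⁻¹, conj_mul, h]; simp
  refine ⟨θ', hθ', hr',
    range_eq_block h2 hθ' (hr' ▸ r1) (MonoidHom.ofInjective i1) (sq hs)
      (by rw [e1, es]; exact neg_one_cent φ) (k := 2) hP rfl
      (fun r hr => by fin_cases r <;> simp at hr ⊢) iL fun g a b => ?_,
    range_eq_block h2 hθ' (hr' ▸ r2) (MonoidHom.ofInjective i2) (sq ht)
      (by rw [e1, et]; exact neg_one_cent φ') (k := 0) hP' rfl
      (fun r hr => by fin_cases r <;> simp at hr ⊢) iR fun g a b => ?_, fun a => ?_, fun a => ?_⟩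
  · obtain ⟨a1, a2⟩ := a 0 (by decide)
    obtain ⟨a3, a4⟩ := a 1 (by decide)
    refine ⟨⟨!![g 0 0, g 0 1; g 1 0, g 1 1], ?_⟩, Subtype.ext ?_⟩
    · have := (det_fin_three g.1).symm.trans g.2
      simpa [a1, a2, a3, a4, b] using this
    · refine (iL_coe _).trans ?_; ext i j; fin_cases i <;> fin_cases j <;> simp [a1, a2, a3, a4, b]
  · obtain ⟨a1, a2⟩ := a 1 (by decide)
    obtain ⟨a3, a4⟩ := a 2 (by decide)
    refine ⟨⟨!![g 1 1, g 1 2; g 2 1, g 2 2], ?_⟩, Subtype.ext ?_⟩
    · have := (det_fin_three g.1).symm.trans g.2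
      simpa [a1, a2, a3, a4, b] using this
    · refine (iR_coe _).trans ?_; ext i j; fin_cases i <;> fin_cases j <;> simp [a1, a2, a3, a4, b]
  · simp only [← et, ← e1 t, MonoidHom.comp_apply, iL_xx, iL_yy, ← map_inv, ← map_mul,
      (act_tvE (σ := 1) (hP'.trans (mon_one _).symm)).2 _ _ (show (0 : Fin 3) ≠ 1 by decide),
      (act_tvE (σ := 1) (hP'.trans (mon_one _).symm)).2 _ _ (show (1 : Fin 3) ≠ 0 by decide)]
    simp [div_neg]
  · simp only [← es, ← e1 s, MonoidHom.comp_apply, iR_xx, iR_yy, ← map_inv, ← map_mul,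
      (act_tvE (σ := 1) (hP.trans (mon_one _).symm)).2 _ _ (show (1 : Fin 3) ≠ 2 by decide),
      (act_tvE (σ := 1) (hP.trans (mon_one _).symm)).2 _ _ (show (2 : Fin 3) ≠ 1 by decide)]
    simp [div_neg]

/-- An element of order four centralising the upper block. -/
theorem exists_four_lin (h2 : (2 : F) ≠ 0) {θ : SL(3, F) →* G} (hθ : θ.ker ≤ Subgroup.center _)
    {i : F} (hi : i * i = -1) :
    ∃ d, (∀ x, Commute (θ d) (θ (iL x))) ∧ θ d ^ 2 ^ 2 = 1 ∧ θ d * θ d ≠ 1 := by
  let d : SL(3, F) := ⟨diagonal ![i, i, -1], by simp [det_diagonal, Fin.prod_univ_three, hi]⟩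
  have dd : (d * d).1 = diagonal ![-1, -1, 1] := by
    change diagonal _ * diagonal _ = _
    rw [diagonal_mul_diagonal]; congr 1; funext k; fin_cases k <;> simp [hi]
  have d4 : d * d * (d * d) = 1 := Subtype.ext (by
    change (d * d).1 * (d * d).1 = 1
    rw [dd, diagonal_mul_diagonal, ← diagonal_one]
    congr 1; funext k; fin_cases k <;> simp)
  refine ⟨d, fun x => Commute.map (show d * iL x = iL x * d from Subtype.ext ?_) θ, ?_, fun e => ?_⟩
  · change diagonal _ * (iL x).1 = (iL x).1 * diagonal _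
    rw [iL_coe]; ext a b
    rw [diagonal_mul, mul_diagonal]
    fin_cases a <;> fin_cases b <;> simp [mul_comm]
  · rw [← map_pow, show d ^ 2 ^ 2 = d * d * (d * d) by simp [pow_succ, mul_assoc], d4, map_one]
  · have h3 := cube_of_center (hθ (show d * d ∈ θ.ker from (map_mul θ d d).trans e))
    rw [pow_three, d4, mul_one] at h3
    have := congrFun (congrFun (dd.symm.trans (congrArg Subtype.val h3)) 0) 0
    simp at this
    exact h2 (by linear_combination -this)

end Lin

section Uni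

open Cfsg.Agent.CT.U Cfsg.Agent.Class.U

variable {K : Type*} [Field K] {q : ℕ} [hU : UF K q]

theorem pow_of_center {k : SU 3 K q} (h : k ∈ Subgroup.center (SU 3 K q)) :
    k ^ 3 = 1 ∧ k ^ (q + 1) = 1 := by
  obtain ⟨e, he⟩ := (mem_center_iff (by omega)).1 h
  have pw : ∀ (m : ℕ) (x : Fin 3 → K), k ^ m • x = e ^ m • x := fun m x => by
    induction m with
    | zero => simp
    | succ m ih => rw [pow_succ', mul_smul, ih, SU_smul_comm, he, smul_smul, pow_succ]
  have h1 := SU_det_eq_one (g := k) (M := e • 1) fun v => by rw [he, smul_mulVec, one_mulVec]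
  rw [det_smul, det_one, mul_one, Fintype.card_fin] at h1
  have h2 := SU_herm k (ee K 0) (ee K 0)
  rw [he, herm_smul_left, herm_smul_right, on_single.unit, mul_one, conj_apply, ← pow_succ'] at h2
  exact ⟨SU_ext fun x => by rw [pw, h1, one_smul, one_smul],
    SU_ext fun x => by rw [pw, h2, one_smul, one_smul]⟩

theorem inv_uniqueU {θ : SU 3 K q →* G} (hθ : θ.ker ≤ Subgroup.center _) {s t : SU 3 K q}
    (hs : s * s = 1) (ht : t * t = 1) (h : θ s = θ t) : s = t := by
  have hk : s⁻¹ * t ∈ Subgroup.center _ := hθ (by simp [h])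
  have h1 := (pow_of_center hk).1
  have h2 := Subgroup.mem_center_iff.1 hk s
  generalize hk' : s⁻¹ * t = k at h1 h2
  obtain rfl : t = s * k := by rw [← hk', mul_inv_cancel_left]
  rw [mul_assoc, ← mul_assoc k, ← h2, mul_assoc, ← mul_assoc, hs, one_mul] at ht
  rw [pow_three, ht, mul_one] at h1
  rw [h1, mul_one]

theorem refl_formula (h2 : (2 : K) ≠ 0) {a : Fin 3 → K} (ha : hermForm 3 K q a a = 1)
    {t : SU 3 K q} (ht : t * t = 1) (t1 : t ≠ 1) (hta : t • a = a) (x : Fin 3 → K) :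
    t • x = -x + (2 * hermForm 3 K q x a) • a := by
  obtain ⟨m, hm', hm''⟩ := exists_stab (n := 2) (by omega) ha
  obtain ⟨z', rfl⟩ := (hm'' t).1 hta
  have z'2 : z' * z' = 1 := iL_injective (by
    rw [conj_mul, conj_eq_one_iff] at ht
    rw [map_mul, ht, map_one])
  have z'1 : z' ≠ 1 := fun h => t1 (by simp [h])
  rw [mul_smul, mul_smul, smul_eq_iff_eq_inv_smul, iL, blk,
    emb_smul (on_ee (Fin.castSucc_injective 2)), SU2_smul_eq_neg h2 z'2 z'1, smul_add, smul_neg,
    ← hm', SU_smul_comm, inv_smul_smul, ← smul_inv_smul m x, SU_herm, herm_single_right,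
    inv_smul_smul]
  generalize m⁻¹ • x = y
  funext i
  fin_cases i <;> simp [comb, coord, herm_single_right, Fin.sum_univ_two]
  ring

theorem std_of_invol {F : Type*} [Field F] [Finite F] (hF : Nat.card F = q) (hq : 4 < q)
    (h2 : (2 : F) ≠ 0) (h2' : (2 : K) ≠ 0) {θ : SU 3 K q →* G} (hθ : θ.ker ≤ Subgroup.center _)
    {φ φ' : SL(2, F) →* G} (i1 : Function.Injective φ) (i2 : Function.Injective φ')
    (r1 : φ.range ≤ θ.range) (r2 : φ'.range ≤ θ.range) (ne : φ (-1) ≠ φ' (-1))
    (hc : Commute (φ (-1)) (φ' (-1))) :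
    ∃ θ' : SU 3 K q →* G, Std θ' φ.range φ'.range θ.range := by
  obtain ⟨f⟩ := nonempty_SU2_equiv (F := K) hF
  have key : ∀ {φ : SL(2, F) →* G}, Function.Injective φ → φ.range ≤ θ.range →
      ∃ (a : Fin 3 → K) (t : SU 3 K q), hermForm 3 K q a a = 1 ∧
        (MulAction.stabilizer _ a).map θ = φ.range ∧ t * t = 1 ∧ θ t = φ (-1) ∧
        ∀ x, t • x = -x + (2 * hermForm 3 K q x a) • a := by
    intro φ i r
    obtain ⟨ψ, hψ⟩ : ∃ ψ : SL(2, F) →* SU 3 K q, θ.comp ψ = φ := by
      by_cases h9 : q = 9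
      · have hi : Function.Injective θ := (MonoidHom.ker_eq_bot_iff θ).1 (eq_bot_iff.2 fun k hk => by
          obtain ⟨a, b⟩ := pow_of_center (hθ hk)
          rw [show q + 1 = 3 * 3 + 1 by omega, pow_succ, pow_mul, a, one_pow, one_mul] at b
          exact b)
        exact ⟨((MonoidHom.ofInjective hi).symm.toMonoidHom.comp (Subgroup.inclusion r)).comp
          φ.rangeRestrict, MonoidHom.ext fun x => MonoidHom.apply_ofInjective_symm hi _⟩
      · exact Mult.Cov.exists_lift (Class.Dickson.SL2_commutator_eq_top (by omega))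
          (Mult.mcard_SL2 (by omega) (by omega)) hθ φ r
    have e : ∀ x, θ (ψ x) = φ x := fun x => DFunLike.congr_fun hψ x
    have iψ : Function.Injective ψ := fun x y h => i (by rw [← e, h, e])
    obtain ⟨a, ha, H⟩ := exists_range_eq (χ := ψ.comp f.toMonoidHom) (iψ.comp f.injective)
    rw [MonoidHom.range_comp, MonoidHom.range_eq_top.2 f.surjective, ← MonoidHom.range_eq_map] at H
    have t2 : ψ (-1) * ψ (-1) = 1 := by rw [← map_mul]; simp
    exact ⟨a, ψ (-1), ha, by rw [← H, ← MonoidHom.range_comp, hψ], t2, e _,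
      refl_formula h2' ha t2 (fun h => Class.Dickson.neg_one_ne_one_SL h2
        (iψ (h.trans (map_one _).symm))) (H ▸ ⟨-1, rfl⟩ : ψ (-1) ∈ MulAction.stabilizer _ a)⟩
  obtain ⟨a, t, ha, a1, a2, a3, a4⟩ := key i1 r1
  obtain ⟨b, t', hb, b1, b2, b3, b4⟩ := key i2 r2
  have hba : hermForm 3 K q b a = 0 := by
    by_contra h0
    have hc' : t' * t * t'⁻¹ = t := inv_uniqueU hθ (by rw [conj_mul, a2]; simp) a2 (by
      rw [map_mul, map_mul, map_inv, a3, b3, ← hc.eq, mul_inv_cancel_right])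
    have tb : t' • b = b := by rw [b4, hb]; module
    have h1 : t' • t • b = t • b := by
      rw [← mul_smul, mul_inv_eq_iff_eq_mul.1 hc', mul_smul, tb]
    rw [b4, a4] at h1
    obtain ⟨l, rfl⟩ : ∃ l : K, a = l • b := by
      generalize hermForm 3 K q (-b + (2 * hermForm 3 K q b a) • a) b = c at h1
      generalize hermForm 3 K q b a = u at h0 h1
      refine ⟨(1 + c) / (2 * u), ?_⟩
      have h3 : (2 * (2 * u)) • a = (2 * (1 + c)) • b := by
        linear_combination (norm := module) -h1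
      have h4 : 2 * (2 * u) ≠ 0 := mul_ne_zero h2' (mul_ne_zero h2' h0)
      rw [← inv_smul_smul₀ h4 a, h3, smul_smul]
      congr 1; field_simp
    rw [herm_smul_left, herm_smul_right, hb, mul_one] at ha
    refine ne (a3.symm.trans ((congrArg θ (SU_ext fun x => ?_)).trans b3))
    rw [a4, b4, herm_smul_right, smul_smul]
    congr 2
    linear_combination 2 * hermForm 3 K q x b * ha
  obtain ⟨s, hs⟩ := (on2 (on_single.unit 0) (on_single.unit 2)
    (on_single.orth 0 2 (by decide))).witt (on2 hb ha hba) (by simp)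
  have s0 : s • ee K (0 : Fin 3) = b := hs 0
  have s2 : s • ee K (2 : Fin 3) = a := hs 1
  have cj : ∀ (v : Fin 3 → K), (MulAction.stabilizer (SU 3 K q) v).map (MulAut.conj s).toMonoidHom =
      MulAction.stabilizer (SU 3 K q) (s • v) := fun v =>
    (MulAction.stabilizer_smul_eq_stabilizer_map_conj s v).symm
  refine ⟨θ.comp (MulAut.conj s).toMonoidHom, ?_, ?_, ?_, fun x hx => ?_⟩
  · rw [← a1, ← s2, ← cj, Subgroup.map_map, MonoidHom.range_comp]
    congr 1; ext; exact mem_range_iL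
  · rw [← b1, ← s0, ← cj, Subgroup.map_map, MonoidHom.range_comp]
    congr 1; ext; exact mem_range_iR
  · rw [MonoidHom.range_comp, MonoidHom.range_eq_top.2 (MulAut.conj s).surjective,
      ← MonoidHom.range_eq_map]
  · have : s * (s * x * s⁻¹) = s * x * s⁻¹ * s := Subgroup.mem_center_iff.1 (hθ hx) s
    rw [inv_mul_cancel_right, mul_right_inj] at this
    exact this ▸ hθ hx

theorem exists_four_uni (h2 : (2 : K) ≠ 0) {θ : SU 3 K q →* G} (hθ : θ.ker ≤ Subgroup.center _)
    {i : K} (hi : i * i = -1) (hi' : i * conj K q i = 1) :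
    ∃ d, (∀ x, Commute (θ d) (θ (iL x))) ∧ θ d ^ 2 ^ 2 = 1 ∧ θ d * θ d ≠ 1 := by
  have hm : (-1 : K) * conj K q (-1) = 1 := by simp
  let d : SU 3 K q := diagSU ![i, i, -1] (norm3 hi' hi' hm) (by simp [Fin.prod_univ_three, hi])
  have dd : (d * d).1.1 = diagonal ![-1, -1, 1] := by
    change diagonal _ * diagonal _ = _
    rw [diagonal_mul_diagonal]; congr 1; funext k; fin_cases k <;> simp [hi]
  have d4 : d * d * (d * d) = 1 := Subtype.ext (Subtype.ext (by
    change (d * d).1.1 * (d * d).1.1 = 1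
    rw [dd, diagonal_mul_diagonal, ← diagonal_one]
    congr 1; funext k; fin_cases k <;> simp))
  refine ⟨d, fun x => Commute.map ?_ θ, ?_, fun e => ?_⟩
  · refine (diagSU_mul _ _ _ _).trans ?_
    rw [dHom_iL, dHom_const]
    intro a b
    fin_cases a <;> fin_cases b <;> simp
  · rw [← map_pow, show d ^ 2 ^ 2 = d * d * (d * d) by simp [pow_succ, mul_assoc], d4, map_one]
  · have h3 := (pow_of_center (hθ (show d * d ∈ θ.ker from (map_mul θ d d).trans e))).1
    rw [pow_three, d4, mul_one] at h3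
    have := congrFun (congrFun (dd.symm.trans (congrArg (fun g : SU 3 K q => g.1.1) h3)) 0) 0
    simp at this
    exact h2 (by linear_combination -this)

end Uni

end Cfsg.Agent.L4W
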