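import Mathlib
import Cfsg.Agent.L4W.LF

/-! Fusion of involutions in a group without subgroups of index 2 with Sylow 2-subgroup `D₈ ≀ 2`. -/

set_option autoImplicit false
set_option linter.unusedSectionVars false
set_option synthInstance.maxSize 8000

namespace Cfsg.Agent.L4W

open Subgroup Cfsg Cfsg.Agent.PLocal.Amb Cfsg.Agent.Gold Cfsg.Agent.BF Cfsg.Agent.W42 Cfsg.Agent.LyS
  Cfsg.Agent.SylT

/-- the maximal subgroup not containing `u1, v1, kt` -/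
def kX : Subgroup K := TG.msub 0xff0f00ff00f0ff0f00f0ff00ff0f00f (by decide +kernel)
instance instDecX (x : K) : Decidable (x ∈ kX) := TG.instDecMem _ _ x
theorem card_X : Nat.card kX * 2 = Nat.card K := by rw [TG.card_sub, card_K]; decide +kernel
theorem card_S' : Nat.card kS * 2 = Nat.card K := by rw [card_S, card_K]

/-- the automorphism `u_i ↦ u_i z_j` -/
def fu : K →* K := MonoidHom.mk' (fun x => TG.of (0xf9f7f7ff5efc79ebd3bf6e7cb8f0d9b776fd5af469cb933e6c78b0e0b976f5fb56ec59ab52bd6a74a8d0993674f952e4498b123c6870a0c078f5f3f74edc396ad1bb666c98b058b572f54ad4294a913a646890a03874f1f346cc192a50b962648890183470f142c4090a103860608080 >>> (7 * x.v)))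
  (by decide +kernel)

theorem fu_inj : Function.Injective fu := (injective_iff_map_eq_one fu).2 (by decide +kernel)

/-- the action of a general swap on `kP` -/
def mx (α β : Bool) (x : K) : K :=
  cond (x.v.testBit 0) (u1 * z1) 1 * cond (x.v.testBit 1) z2 1 * cond (x.v.testBit 2) u1 1 *
    cond (x.v.testBit 3) (u2 * cond α u1 1) 1 * cond (x.v.testBit 5) (v2 * cond β u1 1) 1

theorem P_bits : ∀ x ∈ kP, x = cond (x.v.testBit 0) z1 1 * cond (x.v.testBit 1) z2 1 *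
    cond (x.v.testBit 2) u1 1 * cond (x.v.testBit 3) u2 1 * cond (x.v.testBit 5) v2 1 := by
  decide +kernel

/-- the involutions fused to `z1` if `kt` is fused to `kz` -/
def ty (α β : Bool) (x : K) : Prop :=
  Nat.testBit (0x500030536 ||| cond α 0xf000 0 ||| cond β 0xf000000000000 0) x.v = true

instance instDecTy (α β : Bool) (x : K) : Decidable (ty α β x) := inferInstanceAs (Decidable (_ = true))

theorem ty_cls : ∀ α β x, x * x = 1 → x ≠ 1 → ∃ k, ∃ y ∈ [z1, u1, v1, kz, u1 * z2, v1 * z2, u1 * u2, v1 * v2,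
    kn, kt], k * x * k⁻¹ = y ∧ (ty α β x ↔ ty α β y) := by decide +kernel

theorem ty_no : ∀ α, ∀ p : K, p * p = 1 → (ty α α p ↔ α = true) → ¬ ty α α (p * kz) →
    ∀ q : K, q * q = 1 → (ty α α q ↔ α = true) → ¬ ty α α (q * kz) → ∀ w, w = p * q * (p * q) → w ≠ 1 →
    w ≠ kz → w * w = 1 → ¬ ty α α w → ¬ ty α α (w * kz) → (ty α α (p * w) ↔ α = true) →
    (ty α α (q * w) ↔ α = true) → ¬ ty α α (p * w * kz) → ty α α (q * w * kz) := by decide +kernel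

variable {G : Type*} [Group G] [Finite G] {ι : K →* G} {g m m' : G} {x y : K} {α β α' β' : Bool}

theorem exA (d : MS ι ⊤) (h2 : ∀ M : Subgroup G, M.index ≠ 2) (hx : x ∈ [u1, u1 * z2]) :
    ∃ n ∈ 𝐍[kB.map ι], Cj ι n z2 z2 ∧ (∃ q ∈ kE 1 0, q ∉ kB ∧ Cj ι n v2 q) ∧
      (Cj ι n x kz ∨ Cj ι n x z1) := by
  have i := d.inj
  obtain ⟨x2, x1, xz, xB, c1, c2⟩ := (by decide +kernel : ∀ x ∈ [u1, u1 * z2], x * x = 1 ∧ x ≠ 1 ∧ x ≠ z2 ∧
    x ∈ kB ∧ (∀ w ∈ kB, w * x = x * w) ∧ ∀ w ∈ kE 1 0, w * x = x * w) x hx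
  obtain ⟨g, y, hy, e, h⟩ := d.thompson h2 card_X x2
  have hn := wc' d (i := 1) fun w hw => h w (c1 w hw)
  obtain ⟨a, b, hab, k⟩ := typC d (g := g) (i := 1) (j := 0) (by decide) fun w hw => h w (c2 w hw)
  have v2E : v2 ∈ kE 1 0 := by decide +kernel
  obtain ⟨q, eq⟩ := h v2 (c2 _ v2E)
  obtain ⟨p, hp, ep⟩ := exists_cj_of_norm hn (x := u2) (by decide +kernel)
  obtain ⟨w, hw, ew⟩ := exists_cj_of_norm hn (x := z2) (by decide +kernel)
  obtain ⟨s, r1, r2, r3, r4⟩ := (by decide +kernel : ∀ a b, a ≠ b → ∀ q ∈ kE a b, q ∉ kB → ∀ p ∈ kB,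
      p * q * (p * q) ≠ 1 → ∀ y ∈ kB, y ∈ kX → y ≠ 1 → y ≠ p * q * (p * q) → q * y = y * q → ∃ s ∈ [1, kt],
      s * q * s⁻¹ ∈ kE 1 0 ∧ s * q * s⁻¹ ∉ kB ∧ s * (p * q * (p * q)) * s⁻¹ = z2 ∧
      (s * y * s⁻¹ = kz ∨ s * y * s⁻¹ = z1)) a b hab q (k _ v2E _ eq)
    (fun r => absurd (eq.symm.mem_of_norm i (inv_mem hn) r) (by decide +kernel)) p hp
    (((ep.mul eq).mul (ep.mul eq)).ne_one i (by decide +kernel)) y (e.mem_of_norm i hn xB) hy
    (e.ne_one i x1) (fun r => xz (((e.eq_iff i ((ep.mul eq).mul (ep.mul eq))).2 r).trans (by decide +kernel)))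
    ((eq.comm i e).1 (c2 _ v2E)) |>.imp fun _ r => r.2
  exact ⟨ι s * g, mul_mem (range_le_N ι 1 ⟨s, rfl⟩) hn,
    (((ep.mul eq).mul (ep.mul eq)).trans (Cj.of' r3)).cg (by decide +kernel) rfl,
    ⟨_, r1, r2, eq.trans (Cj.of s q)⟩, r4.imp (fun r => e.trans (Cj.of' r)) fun r => e.trans (Cj.of' r)⟩

theorem fu_or (d : MS ι ⊤) (h2 : ∀ M : Subgroup G, M.index ≠ 2) : Fu ι u1 z1 ∨ Fu ι (u1 * z2) z1 := by
  obtain ⟨n, -, e, -, r | r⟩ := exA d h2 (x := u1) (by simp)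
  exacts [Or.inr ⟨n, (r.mul e).cg rfl (by decide +kernel)⟩, Or.inl ⟨n, r⟩]

/-- the normalized situation -/
structure NF (ι : K →* G) : Prop extends MS ι ⊤ where
  idx : ∀ M : Subgroup G, M.index ≠ 2
  fu : Fu ι u1 z1
  fv : Fu ι v1 z1

theorem exNF (d : MS ι ⊤) (h2 : ∀ M : Subgroup G, M.index ≠ 2) : ∃ κ : K →* G, NF κ := by
  have k : ∀ {ι : K →* G}, MS ι ⊤ → ∃ κ : K →* G, MS κ ⊤ ∧ Fu κ u1 z1 ∧ κ v1 = ι v1 ∧ κ z1 = ι z1 := by
    intro ι d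
    rcases fu_or d h2 with r | ⟨g, r⟩
    · exact ⟨ι, d, r, rfl, rfl⟩
    · exact ⟨ι.comp L4W.fu, ms_comp fu_inj d, ⟨g, show Cj ι g (L4W.fu u1) (L4W.fu z1) from
        r.cg (by decide +kernel) (by decide +kernel)⟩, congrArg ι (by decide +kernel),
        congrArg ι (by decide +kernel)⟩
  obtain ⟨κ, d1, ⟨g, f1⟩, -, -⟩ := k d
  obtain ⟨κ', d2, f2, e1, e2⟩ := k (ms_comp sg_inj d1)
  refine ⟨κ', d2, h2, f2, g, ?_⟩
  rw [Cj, e1, e2]
  exact cj_sg.2 (f1.cg sg_val.2.2.2.2.1.symm sg_val.1.symm)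

/-- a general swap -/
structure Sx (ι : K →* G) (m : G) (α β : Bool) : Prop where
  sq : m * m = 1
  cz : Cj ι m z2 z2
  cu : Cj ι m u1 u1
  zu : Cj ι m z1 (u1 * z1)
  cw : Cj ι m u2 (u2 * cond α u1 1)
  cv : Cj ι m v2 (v2 * cond β u1 1)

theorem cj_cond (e : Cj ι g x y) (b : Bool) : Cj ι g (cond b x 1) (cond b y 1) := by
  cases b
  exacts [Cj.one, e]

theorem Sx.act (s : Sx ι m α β) (hx : x ∈ kP) : Cj ι m x (mx α β x) :=
  (((((cj_cond s.zu _).mul (cj_cond s.cz _)).mul (cj_cond s.cu _)).mul (cj_cond s.cw _)).mul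
    (cj_cond s.cv _)).cg (P_bits x hx).symm rfl

theorem Sx.act' (s : Sx ι m α β) (x y : K) (h : x ∈ kP ∧ mx α β x = y) : Cj ι m x y := h.2 ▸ s.act h.1

theorem Sx.act2 (s : Sx (ι.comp sg) m α β) (x y : K)
    (h : sg (kt * x * kt⁻¹) ∈ kP ∧ kt * sg (mx α β (sg (kt * x * kt⁻¹))) * kt⁻¹ = y) :
    Cj ι (ι kt * (m * ι kt)) x y :=
  ((Cj.of kt x).trans (cj_sg'.1 ((s.act h.1).cg rfl (sg_sg _).symm))).trans (Cj.of' h.2)

namespace NF

variable (d : NF ι)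
include d

theorem sy : NF (ι.comp sg) := by
  obtain ⟨g, e⟩ := d.fu
  obtain ⟨g', e'⟩ := d.fv
  exact ⟨ms_comp sg_inj d.toMS, d.idx, ⟨g', cj_sg.2 (e'.cg (by decide +kernel) (by decide +kernel))⟩,
    ⟨g, cj_sg.2 (e.cg (by decide +kernel) (by decide +kernel))⟩⟩

theorem no (h1 : Fu ι x z1) (h2 : Fu ι x kz) : False := az d.toMS (h1.symm.trans h2)

theorem exS : ∃ m α β, Sx ι m α β := by
  have i := d.inj
  obtain ⟨n, hn, e, ⟨q, hq, qB, eq⟩, r | r⟩ := exA d.toMS d.idx (x := u1) (by simp)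
  · exact (d.no d.fu ⟨n, r⟩).elim
  have fz : Fu ι (u1 * z2) kz := ⟨n, (r.mul e).cg rfl zz12⟩
  obtain ⟨a, ha, ea⟩ := exists_cj_of_norm hn (x := z1) (by decide +kernel)
  obtain ⟨p, hp, ep⟩ := exists_cj_of_norm hn (x := u2) (by decide +kernel)
  have k : ∀ {x w x' w'}, Cj ι n x w → Cj ι n x' w' → v1 * w * v1⁻¹ = w' → Cj ι (n⁻¹ * (ι v1 * n)) x x' :=
    fun a b c => (a.trans (Cj.of' c)).trans b.symm
  have h1 : v1 * a * v1⁻¹ = z1 * a := by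
    rcases (by decide +kernel : ∀ q ∈ kE 1 0, q ∉ kB → ∀ a ∈ kB, a * q = q * a → a ≠ 1 → a ≠ z1 → a ≠ z2 →
      v1 * a * v1⁻¹ = z1 * a ∧ (a = u1 ∨ a = u1 * z1) ∨ a = kz ∨ ∃ k, k * a * k⁻¹ = u1 * z2) q hq qB a ha
      ((ea.comm i eq).1 (by decide +kernel)) (ea.ne_one i (by decide +kernel))
      (fun c => absurd ((ea.eq_iff i r).2 c) (by decide +kernel))
      (fun c => absurd ((ea.eq_iff i e).2 c) (by decide +kernel)) with c | rfl | ⟨s, c⟩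
    exacts [c.1, (az d.toMS ⟨n, ea⟩).elim, (az d.toMS (Fu.trans ⟨n, ea⟩ ((Fu.of c).trans fz))).elim]
  have h2 : ∀ {x w}, Cj ι n x w → w ∈ kS → w * w = 1 →
      ∃ b, Cj ι (n⁻¹ * (ι v1 * n)) x (x * cond b u1 1) := fun {x w} c hw w2 => by
    rcases (by decide +kernel : ∀ w ∈ kS, w * w = 1 → v1 * w * v1⁻¹ = w * 1 ∨ v1 * w * v1⁻¹ = w * z1) w hw w2
      with t | t
    exacts [⟨false, k c (c.mul Cj.one) t⟩, ⟨true, k c (c.mul r) t⟩]
  obtain ⟨α, h3⟩ := h2 ep (E_le_S 1 1 p hp) (E_sq 1 1 p hp)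
  obtain ⟨β, h4⟩ := h2 eq (E_le_S 1 0 q hq) (E_sq 1 0 q hq)
  refine ⟨_, α, β, ?_, k e e (by decide +kernel), k r r (by decide +kernel), k ea (r.mul ea) h1, h3, h4⟩
  rw [show n⁻¹ * (ι v1 * n) * (n⁻¹ * (ι v1 * n)) = n⁻¹ * (ι v1 * ι v1) * n by group, ← map_mul,
    show v1 * v1 = 1 by decide +kernel]
  simp

theorem fz (s : Sx ι m α β) : Fu ι (u1 * z2) kz :=
  (Fu.of (k := v1) (by decide +kernel)).trans (Fu.symm ⟨m, (s.zu.mul s.cz).cg zz12 rfl⟩)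

theorem fz' (s : Sx (ι.comp sg) m α β) : Fu ι (v1 * z2) kz := by
  obtain ⟨g, e⟩ := d.sy.fz s
  exact ⟨g, (cj_sg.1 e).cg (by decide +kernel) (by decide +kernel)⟩

theorem no4 (hg : g ∈ 𝐍[(kE 1 0).map ι]) (hx : x ∈ kE 1 0) (hy : y ∈ kE 1 0) (e1 : Cj ι (g * g) x y)
    (e2 : Cj ι (g * g) y x) : x = y := by
  have i := d.inj
  obtain ⟨u, v, hu, hv, hu2, hv2, e⟩ := Transfer.exists_pPart_mul (p := 2) g
  have c : Commute u v := by
    obtain ⟨a, rfl⟩ := hu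
    obtain ⟨b, rfl⟩ := hv
    exact Commute.zpow_zpow_self g a b
  have h4 : g ^ 4 ∈ 𝐜[ι x] := by
    rw [show g ^ 4 = g * g * (g * g) by simp [pow_succ, mul_assoc]]; exact cj_self.1 (e1.trans e2)
  have hv' : v ∈ 𝐜[ι x] := by
    obtain ⟨b, rfl⟩ := hv
    refine mem_of_pow_mem_of_coprime (n := 4) ?_ (Nat.Coprime.pow_right 2 hv2)
    rw [← zpow_natCast, ← zpow_mul, mul_comm, zpow_mul, zpow_natCast]
    exact zpow_mem h4 b
  have e3 : Cj ι (u * u) x y := by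
    have := (cj_self.2 (inv_mem (mul_mem hv' hv'))).trans e1
    rwa [e, c.symm.mul_mul_mul_comm, mul_inv_cancel_right] at this
  have uN := zpowers_le.2 hg hu
  obtain ⟨t, -, k⟩ := d.syl.exists_cj_le (isPGroup_sup (isPGroup_zpowers hu2) (d.pg (kE 1 0))
    (zpowers_le.2 uN)) le_top
  obtain ⟨a, b, k1⟩ := e16 i ((cj_mono t le_sup_right).trans k)
  obtain ⟨s, hs⟩ := k (conj_mem_cj t (mem_sup_left (mem_zpowers u)))
  have sN : ι s ∈ 𝐍[(kE a b).map ι] := by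
    rw [← k1, normalizer_cj, hs]; exact conj_mem_cj t uN
  obtain ⟨x', hx', ex⟩ := exists_cj_of_le k1.le hx
  obtain ⟨y', -, ey⟩ := exists_cj_of_le k1.le hy
  have e4 := (ex.symm.trans e3).trans ey
  rw [show t * (u * u * t⁻¹) = t * u * t⁻¹ * (t * u * t⁻¹) by group, ← hs, ← map_mul] at e4
  refine (ex.eq_iff i ey).2 (((Cj.of' ?_).eq_iff i e4).1 rfl)
  exact (by decide +kernel : ∀ a b, a ≠ b → ∀ s, (∀ y ∈ kE a b, s * y * s⁻¹ ∈ kE a b) →
    ∀ y ∈ kE a b, s * s * y * (s * s)⁻¹ = y) a b (fun r => notCA d.toMS (by decide) (r ▸ k1)) s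
    (fun y hy => (Cj.of s y).mem_of_norm i sN hy) x' hx'

theorem beta (s : Sx ι m α β) (s' : Sx (ι.comp sg) m' α' β') : β = false := by
  cases β
  · rfl
  cases β'
  · refine (d.no (x := kn) ?_ ?_).elim
    · exact Fu.trans (Fu.symm ⟨m, s.cv.cg rfl (by decide +kernel)⟩)
        ((Fu.of (k := kt) (by decide +kernel)).trans d.fv)
    · exact Fu.trans (Fu.symm ⟨_, s'.act2 (u1 * z2) (kn * z2) (by cases α' <;> decide +kernel) |>.trans
        (Cj.of' (k := u2) (by decide +kernel))⟩) (d.fz s)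
  have k : ∀ x ∈ kE 1 0, ∃ y ∈ kE 1 0, Cj ι (ι (v1 * u2) * (m * (ι kt * (m' * ι kt) * m))) x y ∧
      (x = u1 * z2 → y = u1 * kz) ∧ (x = u1 * kz → y = v2 * z1) ∧ (x = v2 * z1 → y = v2 * kz) ∧
      (x = v2 * kz → y = u1 * z2) := fun x hx => by
    obtain ⟨a, h1, b, h2, c, h3, h4⟩ := (by decide +kernel : ∀ α α', ∀ x ∈ kE 1 0, ∃ a, (x ∈ kP ∧ mx α true x = a) ∧
      ∃ b, (sg (kt * a * kt⁻¹) ∈ kP ∧ kt * sg (mx α' true (sg (kt * a * kt⁻¹))) * kt⁻¹ = b) ∧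
      ∃ c, (b ∈ kP ∧ mx α true b = c) ∧ v1 * u2 * c * (v1 * u2)⁻¹ ∈ kE 1 0 ∧
        (x = u1 * z2 → v1 * u2 * c * (v1 * u2)⁻¹ = u1 * kz) ∧
        (x = u1 * kz → v1 * u2 * c * (v1 * u2)⁻¹ = v2 * z1) ∧
        (x = v2 * z1 → v1 * u2 * c * (v1 * u2)⁻¹ = v2 * kz) ∧
        (x = v2 * kz → v1 * u2 * c * (v1 * u2)⁻¹ = u1 * z2)) α α' x hx
    exact ⟨_, h4.1, (((s.act' _ _ h1).trans (s'.act2 _ _ h2)).trans (s.act' _ _ h3)).trans (Cj.of _ _), h4.2⟩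
  obtain ⟨_, -, a1, r1, -⟩ := k (u1 * z2) (by decide +kernel)
  obtain ⟨_, -, a2, -, r2, -⟩ := k (u1 * kz) (by decide +kernel)
  obtain ⟨_, -, a3, -, -, r3, -⟩ := k (v2 * z1) (by decide +kernel)
  obtain ⟨_, -, a4, -, -, -, r4⟩ := k (v2 * kz) (by decide +kernel)
  exact absurd (d.no4 (mem_normalizer_of_cj_le (cj_map_le fun x hx => (k x hx).imp fun _ r => ⟨r.1, r.2.1⟩))
    (by decide +kernel) (by decide +kernel) ((r1 rfl ▸ a1).trans (r2 rfl ▸ a2))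
    ((r3 rfl ▸ a3).trans (r4 rfl ▸ a4))) (by decide +kernel)

theorem fuu (s : Sx ι m α false) : Fu ι (u1 * u2) (cond α z1 kz) := by
  cases α
  · exact Fu.trans (Fu.symm ⟨_, (s.act' (u2 * z1) (u1 * u2 * z1) (by decide +kernel)).trans
      (Cj.of' (k := v1) (by decide +kernel))⟩) ((Fu.of (k := kt) (by decide +kernel)).trans (d.fz s))
  · exact Fu.trans (Fu.symm ⟨_, s.act' u2 (u1 * u2) (by decide +kernel)⟩)
      ((Fu.of (k := kt) (by decide +kernel)).trans d.fu)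

theorem fvv (s : Sx (ι.comp sg) m α false) : Fu ι (v1 * v2) (cond α z1 kz) := by
  obtain ⟨g, e⟩ := d.sy.fuu s
  exact ⟨g, (cj_sg.1 e).cg (by decide +kernel) (by cases α <;> decide +kernel)⟩

/-- the two types -/
theorem typ (s : Sx ι m α false) (s' : Sx (ι.comp sg) m' α' false) (h1 : x * x = 1) (h2 : x ≠ 1) :
    ty α α' x ∧ Fu ι x z1 ∨ ¬ ty α α' x ∧ (Fu ι x kz ∨ x ∉ kS ∧ Fu ι x kt) := by
  obtain ⟨k, y, hy, e, t⟩ := ty_cls α α' x h1 h2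
  have f := Fu.of (ι := ι) e
  have a := d.fuu s
  have b := d.fvv s'
  have c : Fu ι kn kz := Fu.trans (Fu.symm ⟨_, (s.act' (v2 * z1) (kn * z1) (by cases α <;> decide +kernel)).trans
    (Cj.of' (k := v1) (by decide +kernel))⟩) ((Fu.of (k := kt) (by decide +kernel)).trans (d.fz' s'))
  rw [t]
  simp only [List.mem_cons, List.not_mem_nil, or_false] at hy
  rcases hy with rfl | rfl | rfl | rfl | rfl | rfl | rfl | rfl | rfl | rfl
  · exact Or.inl ⟨by cases α <;> cases α' <;> decide +kernel, f⟩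
  · exact Or.inl ⟨by cases α <;> cases α' <;> decide +kernel, f.trans d.fu⟩
  · exact Or.inl ⟨by cases α <;> cases α' <;> decide +kernel, f.trans d.fv⟩
  · exact Or.inr ⟨by cases α <;> cases α' <;> decide +kernel, Or.inl f⟩
  · exact Or.inr ⟨by cases α <;> cases α' <;> decide +kernel, Or.inl (f.trans (d.fz s))⟩
  · exact Or.inr ⟨by cases α <;> cases α' <;> decide +kernel, Or.inl (f.trans (d.fz' s'))⟩
  · cases α
    exacts [Or.inr ⟨by cases α' <;> decide +kernel, Or.inl (f.trans a)⟩,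
      Or.inl ⟨by cases α' <;> decide +kernel, f.trans a⟩]
  · cases α'
    exacts [Or.inr ⟨by cases α <;> decide +kernel, Or.inl (f.trans b)⟩,
      Or.inl ⟨by cases α <;> decide +kernel, f.trans b⟩]
  · exact Or.inr ⟨by cases α <;> cases α' <;> decide +kernel, Or.inl (f.trans c)⟩
  · exact Or.inr ⟨by cases α <;> cases α' <;> decide +kernel,
      Or.inr ⟨fun r => absurd (e ▸ S_norm k x r) (by decide +kernel), f⟩⟩

theorem lf (s : Sx ι m α false) (s' : Sx (ι.comp sg) m' α' false) (h : Fu ι kt z1) : LF ι := by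
  have i := d.inj
  obtain ⟨n, e, k⟩ := extr1 d.toMS h
  obtain ⟨p, hp, ep⟩ := k (u1 * u2) (by decide +kernel)
  obtain ⟨q, hq, eq⟩ := k (v1 * v2) (by decide +kernel)
  have e2 := ((ep.mul eq).mul (ep.mul eq)).cg (show _ = kz by decide +kernel) rfl
  have e3 : p * q * (p * q) = kz := by
    rcases sq_S _ (mul_mem hp hq) ((e2.sq i).1 z_sq) with r | r | r | r
    exacts [absurd r (e2.ne_one i z_ne), r, (d.no ⟨n, r ▸ e2⟩ (Fu.refl _)).elim,
      (d.no (Fu.trans ⟨n, r ▸ e2⟩ (Fu.of t_act.2.1)) (Fu.refl _)).elim]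
  obtain ⟨⟨a, ha⟩, b, hb⟩ := (by decide +kernel : ∀ p ∈ kS, p * p = 1 → ∀ q ∈ kS, q * q = 1 →
    p * q * (p * q) = kz → (∃ k, k * p * k⁻¹ = p * z1) ∧ ∃ k, k * q * k⁻¹ = q * z1) p hp
    ((ep.sq i).1 (by decide +kernel)) q hq ((eq.sq i).1 (by decide +kernel)) e3
  have k1 : ∀ {x w : K} (c l : K), Cj ι n x w → c * w * c⁻¹ = w * z1 → l * (x * kt) * l⁻¹ = kt → Fu ι x z1 :=
    fun c l r1 r2 r3 => Fu.trans ⟨_, (r1.trans (Cj.of' r2)).trans (r1.mul e).symm⟩ ((Fu.of r3).trans h)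
  have h1 := d.fuu s
  have h2 := d.fvv s'
  cases α
  · exact (d.no (k1 a u1 ep ha (by decide +kernel)) h1).elim
  cases α'
  · exact (d.no (k1 b v1 eq hb (by decide +kernel)) h2).elim
  have k2 : ∀ {ι : K →* G} {m}, Sx ι m true false → Sw ι m := fun s =>
    ⟨s.sq, s.cz, s.cu, s.zu, s.act' _ _ (by decide +kernel), s.act' _ _ (by decide +kernel)⟩
  exact ⟨d.toMS, ⟨m, k2 s⟩, ⟨m', k2 s'⟩, n, e3 ▸ e2, e⟩

theorem tyi (s : Sx ι m α false) (s' : Sx (ι.comp sg) m' α' false) (h : Fu ι kt kz) (e : Cj ι g x y)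
    (t : ty α α' x) : ty α α' y := by
  obtain ⟨x2, x1⟩ := (by decide +kernel : ∀ α α' x, ty α α' x → x * x = 1 ∧ x ≠ 1) α α' x t
  rcases d.typ s s' x2 x1 with ⟨-, r⟩ | r
  · rcases d.typ s s' ((e.sq d.inj).1 x2) (e.ne_one d.inj x1) with r' | ⟨-, r' | r'⟩
    exacts [r'.1, (d.no r (Fu.trans ⟨g, e⟩ r')).elim, (d.no r (Fu.trans ⟨g, e⟩ (r'.2.trans h))).elim]
  · exact absurd t r.1

theorem af (s : Sx ι m true false) (s' : Sx (ι.comp sg) m' false false) (h : Fu ι kt kz) : AF ι := by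
  have k : ∀ x, t2 x ↔ ty true false x := by decide +kernel
  exact ⟨d.toMS, fun g x y e t => (k y).2 (d.tyi s s' h e ((k x).1 t)), d.fz s,
    (Fu.of (k := kt) (by decide +kernel)).trans (d.fz' s')⟩

theorem ne (s : Sx ι m α false) (s' : Sx (ι.comp sg) m' α false) (h : Fu ι kt kz) : False := by
  have i := d.inj
  obtain ⟨g, e⟩ := h
  obtain ⟨n, -, e, k⟩ := d.toMS.extr z_comm (mem_top g) e
  obtain ⟨p, ep⟩ := k (u1 * u2) (by decide +kernel)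
  obtain ⟨q, eq⟩ := k (v1 * v2) (by decide +kernel)
  have e2 := ((ep.mul eq).mul (ep.mul eq)).cg (show _ = kz by decide +kernel) rfl
  have t : ∀ {x y}, Cj ι n x y → (ty α α y ↔ ty α α x) := fun r =>
    ⟨d.tyi s s' ⟨n, e⟩ r.symm, d.tyi s s' ⟨n, e⟩ r⟩
  refine absurd ((t ((eq.mul e2).mul e)).1 (ty_no α p ((ep.sq i).1 (by decide +kernel)) ((t ep).trans ?_)
    (mt (t (ep.mul e)).1 ?_) q ((eq.sq i).1 (by decide +kernel)) ((t eq).trans ?_) (mt (t (eq.mul e)).1 ?_) _ rfl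
    (e2.ne_one i z_ne) (fun r => absurd ((e2.eq_iff i e).2 r) (by decide +kernel)) ((e2.sq i).1 z_sq)
    (mt (t e2).1 ?_) (mt (t (e2.mul e)).1 ?_) ((t (ep.mul e2)).trans ?_) ((t (eq.mul e2)).trans ?_)
    (mt (t ((ep.mul e2).mul e)).1 ?_))) ?_ <;> cases α <;> decide +kernel

theorem main : (∃ κ : K →* G, AF κ) ∨ LF ι := by
  obtain ⟨m, α, β, s⟩ := d.exS
  obtain ⟨m', α', β', s'⟩ := d.sy.exS
  obtain rfl := d.beta s s'
  obtain rfl := d.sy.beta s' ((comp_sg_sg ι).symm ▸ s)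
  obtain ⟨g, y, hy, e, -⟩ := d.toMS.thompson d.idx card_S' (x := kt) (by decide +kernel)
  rcases d.typ s s' ((e.sq d.inj).1 (by decide +kernel)) (e.ne_one d.inj (by decide +kernel)) with
    ⟨-, r⟩ | ⟨-, r | r⟩
  · exact Or.inr (d.lf s s' (Fu.trans ⟨g, e⟩ r))
  · have h : Fu ι kt kz := Fu.trans ⟨g, e⟩ r
    cases α <;> cases α'
    · exact (d.ne s s' h).elim
    · obtain ⟨c, h⟩ := h
      exact Or.inl ⟨_, d.sy.af s' ((comp_sg_sg ι).symm ▸ s)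
        ⟨c, cj_sg.2 (h.cg (by decide +kernel) (by decide +kernel))⟩⟩
    · exact Or.inl ⟨_, d.af s s' h⟩
    · exact (d.ne s s' h).elim
  · exact absurd hy r.1

end NF

/-- the two fusion patterns -/
theorem fusion (d : MS ι ⊤) (h2 : ∀ M : Subgroup G, M.index ≠ 2) :
    (∃ κ : K →* G, AF κ) ∨ ∃ κ : K →* G, LF κ := by
  obtain ⟨κ, k⟩ := exNF d h2
  exact k.main.imp_right fun r => ⟨κ, r⟩

end Cfsg.Agent.L4W
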